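import Mathlib
import Groth.Prelude
import Groth.Agent.Lib.Helper5.Art.A

set_option autoImplicit false
universe u

open EGA41 IsLocalRing TensorProduct

namespace Groth.Agent.H5.Ins

open Groth.Agent.H5.Art

section A2
variable (p : ℕ) [hpp : Fact p.Prime] {k Λ : Type u} [Field k] [CharP k p] [CommRing Λ] [Algebra k Λ]
  [IsArtinianRing Λ] [IsLocalRing Λ]

include hpp in
/-- **Coefficient field adapted to `k`**: a ring section `σ` of `Λ → K` such that the image of `k`
in `Λ` is contained in any subring containing `σ(k̄)` and finitely many prescribed elements. -/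
theorem exists_section'
    (hfin : Module.Finite (ResidueField Λ) (EGA41.imperfection ℤ k (ResidueField Λ))) :
    ∃ σ : ResidueField Λ →+* Λ, (∀ c, residue Λ (σ c) = c) ∧ ∃ Y : Finset k, ∀ S : Subring Λ,
      (∀ a : k, σ (algebraMap k (ResidueField Λ) a) ∈ S) → (∀ y ∈ Y, algebraMap k Λ y ∈ S) →
      ∀ a : k, algebraMap k Λ a ∈ S := by
  classical
  haveI : CharP (ResidueField Λ) p :=
    charP_of_injective_algebraMap (algebraMap k (ResidueField Λ)).injective p
  haveI : CharP Λ p := charP_of_injective_algebraMap (algebraMap k Λ).injective p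
  obtain ⟨B, hB, S, hS, hSfin, -⟩ := Groth.Agent.H5.Imp.exists_selection_charP p hfin
  haveI : PerfectField (⊥ : Subfield k) := CoeffUniq.perfectField_bot k
  haveI : CharP (⊥ : Subfield k) p :=
    (RingHom.charP_iff (⊥ : Subfield k).subtype Subtype.val_injective p).mpr inferInstance
  haveI : PerfectRing (⊥ : Subfield k) p := PerfectField.toPerfectRing p
  obtain ⟨B', hSB', hB'⟩ := H5.PB.exists_pBasis_of_isPIndependent p
    (fun i : S => algebraMap k (ResidueField Λ) ((i : ↥B) : k)) hS
  have hinj := H5.PB.injective_of_isPIndependent p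
    (fun i : S => algebraMap k (ResidueField Λ) ((i : ↥B) : k)) hS hpp.out.one_lt
  have hlift := (H5.PB.main4541 (p := p) (A := (⊥ : Subfield k)) (Subtype.val : B' → ResidueField Λ)
    hB').2 Λ (maximalIdeal Λ) isNilpotent_maximalIdeal
  let v : ResidueField Λ →ₐ[(⊥ : Subfield k)] Λ ⧸ maximalIdeal Λ := AlgHom.id _ _
  let z : ↥B' → Λ := fun b' =>
    if h : ∃ i : S, algebraMap k (ResidueField Λ) ((i : ↥B) : k) = b'.1 then
      algebraMap k Λ ((h.choose : ↥B) : k)
    else (Ideal.Quotient.mk_surjective (I := maximalIdeal Λ) b'.1).choose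
  have hz : ∀ b' : ↥B', Ideal.Quotient.mk (maximalIdeal Λ) (z b') = v b'.1 := by
    intro b'
    show Ideal.Quotient.mk (maximalIdeal Λ) (z b') = b'.1
    by_cases h : ∃ i : S, algebraMap k (ResidueField Λ) ((i : ↥B) : k) = b'.1
    · simp only [z, dif_pos h]
      exact h.choose_spec
    · simp only [z, dif_neg h]
      exact (Ideal.Quotient.mk_surjective (I := maximalIdeal Λ) b'.1).choose_spec
  obtain ⟨w, ⟨hw1, hw2⟩, -⟩ := hlift v z hz
  have hres : ∀ c, residue Λ (w c) = c := fun c => congr($hw1 c)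
  have hwS : ∀ i : S, w (algebraMap k (ResidueField Λ) ((i : ↥B) : k)) =
      algebraMap k Λ ((i : ↥B) : k) := by
    intro i
    have h : ∃ i' : S, algebraMap k (ResidueField Λ) ((i' : ↥B) : k) =
        algebraMap k (ResidueField Λ) ((i : ↥B) : k) := ⟨i, rfl⟩
    have h1 := hw2 ⟨_, hSB' ⟨i, rfl⟩⟩
    rw [h1]
    simp only [z, dif_pos h]
    have h2 : h.choose = i := hinj h.choose_spec
    rw [h2]
  haveI : Fintype ↥Sᶜ := Fintype.ofFinite _
  refine ⟨w.toRingHom, hres, Finset.univ.image (fun j : ↥Sᶜ => (((j : ↥B)) : k)), ?_⟩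
  intro S' h1 h2
  obtain ⟨n, hn⟩ := isNilpotent_maximalIdeal (Λ := Λ)
  have hR : Subring.comap (algebraMap k Λ) S' = ⊤ := by
    rw [eq_top_iff, ← closure_pow_union_eq_top p (Subtype.val : B → k) hB.2 n, Subring.closure_le]
    rintro _ (⟨c, rfl⟩ | ⟨j, rfl⟩)
    · show algebraMap k Λ (c ^ p ^ n) ∈ S'
      have h3 : algebraMap k Λ c - w (algebraMap k (ResidueField Λ) c) ∈ maximalIdeal Λ := by
        rw [← Ideal.Quotient.eq_zero_iff_mem (I := maximalIdeal Λ), map_sub, sub_eq_zero]
        exact (hres _).symm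
      have h4 : (algebraMap k Λ c - w (algebraMap k (ResidueField Λ) c)) ^ p ^ n = 0 := by
        have h5 := Ideal.pow_mem_pow h3 (p ^ n)
        have h6 : maximalIdeal Λ ^ p ^ n ≤ maximalIdeal Λ ^ n :=
          Ideal.pow_le_pow_right (Nat.lt_pow_self hpp.out.one_lt).le
        have h7 := h6 h5
        rw [hn] at h7
        exact h7
      rw [sub_pow_char_pow, sub_eq_zero] at h4
      rw [map_pow, h4]
      exact S'.pow_mem (h1 c) _
    · show algebraMap k Λ (j : k) ∈ S'
      by_cases hj : j ∈ S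
      · rw [← hwS ⟨j, hj⟩]
        exact h1 _
      · apply h2
        rw [Finset.mem_image]
        exact ⟨⟨j, hj⟩, Finset.mem_univ _, rfl⟩
  intro a
  have : a ∈ Subring.comap (algebraMap k Λ) S' := by rw [hR]; exact Subring.mem_top a
  exact this

end A2

end Groth.Agent.H5.Ins
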