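import Mathlib
import Groth.Prelude
import Groth.Agent.Lib.Helper5.Art.G
import Groth.Agent.Lib.Helper5.Ins.A

set_option autoImplicit false
universe u

open IsLocalRing

namespace Groth.Agent.H5.Ins

open Groth.Agent.H5.Art

set_option maxHeartbeats 1000000 in
/-- strengthened form of S6854 (Stacks 07F6): the coefficient field `σ` and the finite set of
constants `T₀` do not depend on the finitely generated subfield `F ⊇ k(T₀)`. -/
theorem main_plus {k Λ : Type u} [Field k] (p : ℕ) [Fact p.Prime]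
    [CharP k p] [CommRing Λ] [Algebra k Λ] [IsArtinianRing Λ] [IsLocalRing Λ]
    (hfin : Module.Finite (ResidueField Λ) (EGA41.imperfection ℤ k (ResidueField Λ)))
    {d : ℕ} (lam : Fin d → Λ) (hlam : Ideal.span (Set.range lam) = maximalIdeal Λ)
    (E : Finset Λ) :
    ∃ σ : ResidueField Λ →+* Λ, (∀ c, residue Λ (σ c) = c) ∧ ∃ T₀ : Finset (ResidueField Λ),
      ∀ T : Finset (ResidueField Λ),
        (↑T₀ : Set (ResidueField Λ)) ⊆
          Subfield.closure (Set.range (algebraMap k (ResidueField Λ)) ∪ ↑T) →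
      ∃ (A : Subalgebra k Λ) (_ : IsLocalRing A), (↑E : Set Λ) ⊆ A ∧ (∀ i, lam i ∈ A) ∧
        IsArtinianRing A ∧ Module.Flat A Λ ∧ Algebra.EssFiniteType k A ∧
        (∀ f ∈ Subfield.closure (Set.range (algebraMap k (ResidueField Λ)) ∪ ↑T), σ f ∈ A) ∧
        (∀ a ∈ A, residue Λ a ∈
          Subfield.closure (Set.range (algebraMap k (ResidueField Λ)) ∪ ↑T)) ∧
        (∀ a : A, a ∈ maximalIdeal A ↔ (a : Λ) ∈ maximalIdeal Λ) := by
  classical
  obtain ⟨σ, hσ, Y, hY⟩ := exists_section' p hfin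
  letI : Algebra (ResidueField Λ) Λ := σ.toAlgebra
  have hσ' : ∀ c : ResidueField Λ, residue Λ (algebraMap (ResidueField Λ) Λ c) = c := hσ
  have hnil := isNilpotent_maximalIdeal (Λ := Λ)
  have hlam0 : ∀ i, residue Λ (lam i) = 0 := by
    intro i
    rw [residue_eq_zero_iff, ← hlam]
    exact Ideal.subset_span ⟨i, rfl⟩
  -- `Λ = K[λ]`
  have hadj : Algebra.adjoin (ResidueField Λ) (Set.range lam) = ⊤ := by
    have h1 := subring_eq_top_of_nilpotent
      (Algebra.adjoin (ResidueField Λ) (Set.range lam)).toSubring (maximalIdeal Λ) hnil lam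
      (fun i => Algebra.subset_adjoin ⟨i, rfl⟩) hlam (fun a =>
        ⟨algebraMap (ResidueField Λ) Λ (residue Λ a), Subalgebra.algebraMap_mem _ _, by
          rw [← residue_eq_zero_iff, map_sub, hσ', sub_self]⟩)
    rw [eq_top_iff]
    intro x _
    have : x ∈ (Algebra.adjoin (ResidueField Λ) (Set.range lam)).toSubring := by
      rw [h1]; exact Subring.mem_top x
    exact this
  haveI : Module.Finite (ResidueField Λ) Λ := by
    refine ⟨?_⟩
    rw [← Algebra.top_toSubmodule, ← hadj]
    apply fg_adjoin_of_finite (Set.finite_range lam)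
    rintro _ ⟨i, rfl⟩
    have hi : lam i ∈ maximalIdeal Λ := by
      rw [← hlam]; exact Ideal.subset_span ⟨i, rfl⟩
    obtain ⟨n, hn⟩ := hnil
    have h2 : lam i ^ (n + 1) = 0 := by
      have h3 := Ideal.pow_mem_pow hi n
      rw [hn] at h3
      rw [pow_succ, (Ideal.mem_bot.mp h3), zero_mul]
    apply IsIntegral.of_pow (Nat.succ_pos n)
    rw [h2]
    exact isIntegral_zero
  have hspan : Submodule.span (ResidueField Λ) (Submonoid.closure (Set.range lam) : Set Λ) = ⊤ := by
    rw [← Algebra.adjoin_eq_span, hadj, Algebra.top_toSubmodule]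
  obtain ⟨bs, hbs, hbspan, hbli⟩ := exists_linearIndependent (ResidueField Λ)
    (Submonoid.closure (Set.range lam) : Set Λ)
  let B0 : Module.Basis bs (ResidueField Λ) Λ := Module.Basis.mk hbli (by
    rw [Subtype.range_coe, hbspan, hspan])
  haveI : Finite bs := Module.Finite.finite_basis B0
  haveI : Fintype bs := Fintype.ofFinite _
  have hB : ∀ a, B0 a ∈ Submonoid.closure (Set.range lam) := by
    intro a
    rw [Module.Basis.mk_apply]
    exact hbs a.2
  -- the finite set of constants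
  let T₀ : Finset (ResidueField Λ) :=
    ((Finset.univ (α := Fin d × bs × bs)).image (fun x => B0.repr (lam x.1 * B0 x.2.1) x.2.2)) ∪
    ((Finset.univ (α := bs)).image (fun c => B0.repr 1 c)) ∪
    (((E ∪ Y.image (algebraMap k Λ)) ×ˢ (Finset.univ (α := bs))).image (fun x => B0.repr x.1 x.2))
  refine ⟨σ, hσ, T₀, ?_⟩
  intro T hT
  let F : Subfield (ResidueField Λ) :=
    Subfield.closure (Set.range (algebraMap k (ResidueField Λ)) ∪ (T : Set (ResidueField Λ)))
  have hTF : ∀ t ∈ T₀, t ∈ F := fun t ht => hT ht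
  have hTF' : ∀ t ∈ T, t ∈ F := fun t ht => Subfield.subset_closure (Or.inr ht)
  have hF1 : ∀ i a c, B0.repr (lam i * B0 a) c ∈ F := by
    intro i a c
    apply hTF
    apply Finset.mem_union_left
    apply Finset.mem_union_left
    exact Finset.mem_image.mpr ⟨(i, a, c), Finset.mem_univ _, rfl⟩
  have hF0 : InF B0 F 1 := by
    intro c
    apply hTF
    apply Finset.mem_union_left
    apply Finset.mem_union_right
    exact Finset.mem_image.mpr ⟨c, Finset.mem_univ _, rfl⟩
  have hFE : ∀ e ∈ E ∪ Y.image (algebraMap k Λ), InF B0 F e := by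
    intro e he c
    apply hTF
    apply Finset.mem_union_right
    exact Finset.mem_image.mpr ⟨(e, c), Finset.mem_product.mpr ⟨he, Finset.mem_univ _⟩, rfl⟩
  let AF : Subring Λ := subringF B0 lam F hF1 hB hF0
  have hk : ∀ a : k, algebraMap k Λ a ∈ AF := by
    apply hY AF
    · intro a
      exact inF_algebraMap hF0 (Subfield.subset_closure (Or.inl ⟨a, rfl⟩))
    · intro y hy
      exact hFE _ (Finset.mem_union_right _ (Finset.mem_image_of_mem _ hy))
  let A : Subalgebra k Λ := { AF.toSubsemiring with algebraMap_mem' := hk }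
  have hA : ∀ x, x ∈ A ↔ InF B0 F x := fun x => Iff.rfl
  obtain ⟨hloc, hart, hflat, hmap, hmax, hgen⟩ :=
    structure_of_inF B0 lam F A hA hF0 hF1 hlam hB
  have hlamA : ∀ i, lam i ∈ A := fun i => (hA _).mpr (inF_lam lam hF1 hF0 i)
  have hresF : ∀ a ∈ A, residue Λ a ∈ F := fun a ha =>
    rho_mem lam hB (residue Λ) hσ' hlam0 ((hA _).mp ha)
  refine ⟨A, hloc, ?_, hlamA, hart, hflat, ?_, ?_, hresF, hmax⟩
  · intro e he
    exact (hA e).mpr (hFE e (Finset.mem_union_left _ he))
  swap
  · intro f hf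
    exact (hA _).mpr (inF_algebraMap hF0 hf)
  -- essentially of finite type
  have hTA : ∀ t : T, algebraMap (ResidueField Λ) Λ t.1 ∈ A := fun t =>
    (hA _).mpr (inF_algebraMap hF0 (hTF' t.1 t.2))
  let g : Fin d → A := fun i => ⟨lam i, hlamA i⟩
  let s : Finset A := (T.attach.image (fun t => (⟨algebraMap (ResidueField Λ) Λ t.1, hTA t⟩ : A))) ∪
    (Finset.univ.image g)
  have hnilA : IsNilpotent (maximalIdeal A) := isNilpotent_maximalIdeal (Λ := A)
  apply essFiniteType_of_local_nilpotent hnilA s g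
    (fun i => Finset.mem_union_right _ (Finset.mem_image_of_mem _ (Finset.mem_univ _)))
    (hgen g (fun i => rfl))
  -- residue classes
  let D : Subfield (ResidueField Λ) :=
    { carrier := {f | ∃ c ∈ fracSubring k (s : Set A), residue Λ (c : Λ) = f}
      mul_mem' := by
        rintro _ _ ⟨c, hc, rfl⟩ ⟨c', hc', rfl⟩
        exact ⟨c * c', Subring.mul_mem _ hc hc', map_mul _ _ _⟩
      one_mem' := ⟨1, Subring.one_mem _, map_one _⟩
      add_mem' := by
        rintro _ _ ⟨c, hc, rfl⟩ ⟨c', hc', rfl⟩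
        exact ⟨c + c', Subring.add_mem _ hc hc', map_add _ _ _⟩
      zero_mem' := ⟨0, Subring.zero_mem _, map_zero _⟩
      neg_mem' := by
        rintro _ ⟨c, hc, rfl⟩
        exact ⟨-c, Subring.neg_mem _ hc, map_neg _ _⟩
      inv_mem' := by
        rintro _ ⟨c, hc, rfl⟩
        by_cases h0 : residue Λ (c : Λ) = 0
        · rw [h0, inv_zero]
          exact ⟨0, Subring.zero_mem _, map_zero _⟩
        · have hcu : IsUnit c := by
            by_contra hnu
            apply h0
            rw [residue_eq_zero_iff, ← hmax]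
            exact (mem_maximalIdeal c).mpr hnu
          refine ⟨↑(hcu.unit⁻¹), inv_mem_fracSubring hc hcu, ?_⟩
          apply eq_inv_of_mul_eq_one_right
          rw [← map_mul]
          have h1 : ((c * ↑(hcu.unit⁻¹) : A) : Λ) = 1 := by
            rw [IsUnit.mul_val_inv]; rfl
          rw [show (c : Λ) * ((↑(hcu.unit⁻¹) : A) : Λ) = ((c * ↑(hcu.unit⁻¹) : A) : Λ) from rfl, h1,
            map_one] }
  have hFD : F ≤ D := by
    apply Subfield.closure_le.mpr
    rintro _ (⟨c, rfl⟩ | ht)
    · exact ⟨algebraMap k A c, mem_fracSubring_of_mem_adjoin (Subalgebra.algebraMap_mem _ c), rfl⟩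
    · refine ⟨⟨algebraMap (ResidueField Λ) Λ _, hTA ⟨_, ht⟩⟩, ?_, hσ' _⟩
      apply mem_fracSubring_of_mem_adjoin
      apply Algebra.subset_adjoin
      apply Finset.mem_union_left
      exact Finset.mem_image.mpr ⟨⟨_, ht⟩, Finset.mem_attach _ _, rfl⟩
  intro a
  have ha : residue Λ (a : Λ) ∈ F := rho_mem lam hB (residue Λ) hσ' hlam0 ((hA _).mp a.2)
  obtain ⟨c, hc, hca⟩ := hFD ha
  refine ⟨c, hc, ?_⟩
  rw [hmax]
  show (a : Λ) - (c : Λ) ∈ maximalIdeal Λ
  rw [← residue_eq_zero_iff, map_sub, hca, sub_self]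

end Groth.Agent.H5.Ins
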