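import Mathlib
import Groth.Agent.Lib.Helper8.Par09.A

/-! Parameters with annihilator conditions for all sub-collections of the earlier parameters. -/

set_option autoImplicit false
universe u

namespace Groth.Agent.H5.Ins

open Groth.Agent.H8.Par09

/-- the ideal generated by the `e`-th powers of the `π l`, `l ∈ T`. -/
def KT {Λ : Type*} [CommRing Λ] {d : ℕ} (e : ℕ) (π : Fin d → Λ) (T : Finset (Fin d)) : Ideal Λ :=
  Ideal.span ((fun l => π l ^ e) '' (T : Set (Fin d)))

theorem KT_map {Λ : Type*} [CommRing Λ] {d : ℕ} (e : ℕ) (π : Fin d → Λ) (T : Finset (Fin d))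
    {S : Type*} [CommRing S] (φ : Λ →+* S) :
    (KT e π T).map φ = KT e (fun l => φ (π l)) T := by
  rw [KT, KT, Ideal.map_span, Set.image_image]
  congr 1
  refine Set.image_congr fun l _ => ?_
  rw [map_pow]

theorem KT_update {Λ : Type*} [CommRing Λ] {d : ℕ} (e : ℕ) (π : Fin d → Λ) (i₀ : Fin d) (c : Λ)
    (T : Finset (Fin d)) (hT : i₀ ∉ T) : KT e (Function.update π i₀ c) T = KT e π T := by
  unfold KT
  congr 1
  refine Set.image_congr fun l hl => ?_
  have : l ≠ i₀ := fun h => hT (h ▸ hl)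
  rw [Function.update_of_ne this]

/-- existence of a permutation putting `T` first and `i` right after. -/
theorem exists_perm {d : ℕ} (T : Finset (Fin d)) (i : Fin d) (hi : i ∉ T) :
    ∃ (hm : T.card < d) (σ : Equiv.Perm (Fin d)), σ ⟨T.card, hm⟩ = i ∧
      ∀ l : Fin d, σ l ∈ T ↔ (l : ℕ) < T.card := by
  classical
  have hm : T.card < d := by
    have h1 : T ⊆ Finset.univ.erase i := fun l hl =>
      Finset.mem_erase.mpr ⟨fun h => hi (h ▸ hl), Finset.mem_univ _⟩
    have h2 := Finset.card_le_card h1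
    rw [Finset.card_erase_of_mem (Finset.mem_univ _), Finset.card_univ, Fintype.card_fin] at h2
    have : 0 < d := Fin.pos i
    omega
  refine ⟨hm, ?_⟩
  have hcard : Fintype.card {l : Fin d // (l : ℕ) < T.card} = Fintype.card {l : Fin d // l ∈ T} := by
    rw [Fintype.card_coe]
    rw [Fintype.card_subtype]
    have : (Finset.univ.filter fun l : Fin d => (l : ℕ) < T.card) =
        (Finset.univ : Finset (Fin T.card)).map (Fin.castLEEmb hm.le) := by
      ext l
      simp only [Finset.mem_filter, Finset.mem_univ, true_and, Finset.mem_map, Fin.castLEEmb_apply]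
      constructor
      · intro h
        exact ⟨⟨l, h⟩, Fin.ext rfl⟩
      · rintro ⟨a, rfl⟩
        exact a.2
    rw [this, Finset.card_map, Finset.card_univ, Fintype.card_fin]
  let e₀ : {l : Fin d // (l : ℕ) < T.card} ≃ {l : Fin d // l ∈ T} := Fintype.equivOfCardEq hcard
  let σ₁ : Equiv.Perm (Fin d) := e₀.extendSubtype
  have h1 : ∀ l : Fin d, σ₁ l ∈ T ↔ (l : ℕ) < T.card := by
    intro l
    constructor
    · intro h
      by_contra hl
      exact Equiv.extendSubtype_not_mem e₀ l hl h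
    · intro hl
      exact Equiv.extendSubtype_mem e₀ l hl
  let i₁ : Fin d := σ₁.symm i
  have hi₁ : T.card ≤ (i₁ : ℕ) := by
    by_contra h
    push Not at h
    have := (h1 i₁).mpr h
    rw [Equiv.apply_symm_apply] at this
    exact hi this
  refine ⟨(Equiv.swap ⟨T.card, hm⟩ i₁).trans σ₁, ?_, ?_⟩
  · rw [Equiv.trans_apply, Equiv.swap_apply_left, Equiv.apply_symm_apply]
  · intro l
    rw [Equiv.trans_apply]
    by_cases hl : (l : ℕ) < T.card
    · have h2 : l ≠ ⟨T.card, hm⟩ := fun h => by rw [h] at hl; exact lt_irrefl _ hl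
      have h3 : l ≠ i₁ := fun h => by rw [h] at hl; omega
      rw [Equiv.swap_apply_of_ne_of_ne h2 h3]
      exact h1 l
    · constructor
      · intro h
        rw [h1] at h
        exfalso
        by_cases h2 : l = ⟨T.card, hm⟩
        · rw [h2, Equiv.swap_apply_left] at h; omega
        · by_cases h3 : l = i₁
          · rw [h3, Equiv.swap_apply_right] at h
            exact lt_irrefl _ h
          · rw [Equiv.swap_apply_of_ne_of_ne h2 h3] at h
            exact hl h
      · intro h; exact absurd h hl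

section Reg
variable {S : Type u} [CommRing S] [IsRegularLocalRing S]

/-- in a regular local ring, a power of a regular parameter is a nonzerodivisor modulo powers of
any sub-collection of the other parameters. -/
theorem mem_of_pow_mul_mem_subset {d : ℕ} (hd : ringKrullDim S = d) (g : Fin d → S)
    (hg : Ideal.span (Set.range g) = IsLocalRing.maximalIdeal S) (e : ℕ) (he : 0 < e)
    (T : Finset (Fin d)) (i : Fin d) (hi : i ∉ T) (j : ℕ) (x : S)
    (hx : g i ^ j * x ∈ KT e g T) : x ∈ KT e g T := by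
  classical
  obtain ⟨hm, σ, hσi, hσT⟩ := exists_perm T i hi
  have hgσ : Ideal.span (Set.range (g ∘ σ)) = IsLocalRing.maximalIdeal S := by
    rw [σ.surjective.range_comp]; exact hg
  have hset : {y | ∃ l : Fin d, l < (⟨T.card, hm⟩ : Fin d) ∧ y = (g ∘ σ) l ^ e} =
      (fun l => g l ^ e) '' (T : Set (Fin d)) := by
    ext y
    constructor
    · rintro ⟨l, hl, rfl⟩
      exact ⟨σ l, (hσT l).mpr hl, rfl⟩
    · rintro ⟨t, ht, rfl⟩
      refine ⟨σ.symm t, ?_, ?_⟩
      · have := (hσT (σ.symm t)).mp (by rw [Equiv.apply_symm_apply]; exact ht)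
        exact this
      · simp only [Function.comp_apply, Equiv.apply_symm_apply]
  have := mem_of_pow_mul_mem hd (g ∘ σ) hgσ e he ⟨T.card, hm⟩ j x
  rw [hset] at this
  apply this
  simp only [Function.comp_apply, hσi]
  exact hx

end Reg

section Params
variable {Λ : Type u} [CommRing Λ] [IsNoetherianRing Λ] (q : Ideal Λ) [q.IsPrime]

/-- simultaneous version of `Par09.step` for finitely many ideals. -/
theorem multi_step (p : Λ) (Ks : Finset (Ideal Λ))
    (h : ∀ K ∈ Ks, ∀ (j : ℕ) (x : Λ), p ^ j * x ∈ K → ∃ s, s ∉ q ∧ s * x ∈ K) :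
    ∃ t, t ∉ q ∧ ∀ K ∈ Ks, ∀ x, (t * p) ^ 2 * x ∈ K → (t * p) * x ∈ K := by
  classical
  have h1 : ∀ K : Ideal Λ, K ∈ Ks → ∃ s, s ∉ q ∧ ∀ x ∈ torsIdeal K p, s * x ∈ K := by
    intro K hK
    exact exists_uniform q (torsIdeal K p) K (fun x hx => by
      obtain ⟨j, hj⟩ := (mem_torsIdeal _ _ _).mp hx
      exact h K hK j x hj)
  choose! s₀ hs₀q hs₀ using h1
  obtain ⟨s, hsdef⟩ : ∃ s, s = ∏ K ∈ Ks, s₀ K := ⟨_, rfl⟩
  have hsq : s ∉ q := by
    rw [hsdef]
    intro hmem
    obtain ⟨K, hK, hKq⟩ := (Ideal.IsPrime.prod_mem_iff (p := q)).mp hmem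
    exact hs₀q K hK hKq
  have hs : ∀ K ∈ Ks, ∀ x ∈ torsIdeal K p, s * x ∈ K := by
    intro K hK x hx
    rw [hsdef, ← Finset.mul_prod_erase Ks s₀ hK]
    have : (s₀ K * ∏ K' ∈ Ks.erase K, s₀ K') * x = (∏ K' ∈ Ks.erase K, s₀ K') * (s₀ K * x) := by ring
    rw [this]
    exact Ideal.mul_mem_left _ _ (hs₀ K hK x hx)
  have hmono : ∀ K : Ideal Λ, Monotone fun m : ℕ => colonIdeal K (s ^ m) := by
    intro K
    refine monotone_nat_of_le_succ ?_
    intro m x hx
    rw [mem_colonIdeal] at hx ⊢
    have : s ^ (m + 1) * x = s * (s ^ m * x) := by ring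
    rw [this]; exact Ideal.mul_mem_left _ _ hx
  have hstab : ∀ K : Ideal Λ, ∃ n : ℕ, ∀ m, n ≤ m → colonIdeal K (s ^ n) = colonIdeal K (s ^ m) := by
    intro K
    exact monotone_stabilizes_iff_noetherian.mpr (inferInstance : IsNoetherian Λ Λ)
      ⟨fun m => colonIdeal K (s ^ m), hmono K⟩
  choose m₀ hm₀ using hstab
  obtain ⟨M, hMdef⟩ : ∃ M, M = Ks.sup m₀ := ⟨_, rfl⟩
  refine ⟨s ^ M, fun hmem => hsq (Ideal.IsPrime.mem_of_pow_mem inferInstance M hmem), ?_⟩
  intro K hK x hx
  have hMK : m₀ K ≤ M := hMdef ▸ Finset.le_sup hK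
  have h1 : s ^ (2 * M) * x ∈ torsIdeal K p := by
    rw [mem_torsIdeal]
    refine ⟨2, ?_⟩
    have : p ^ 2 * (s ^ (2 * M) * x) = (s ^ M * p) ^ 2 * x := by ring
    rw [this]; exact hx
  have h2 : s * (s ^ (2 * M) * x) ∈ K := hs K hK _ h1
  have h3 : x ∈ colonIdeal K (s ^ (2 * M + 1)) := by
    rw [mem_colonIdeal]
    have : s ^ (2 * M + 1) * x = s * (s ^ (2 * M) * x) := by ring
    rw [this]; exact h2
  rw [← hm₀ K (2 * M + 1) (by omega), hm₀ K M hMK] at h3
  have h4 : s ^ M * x ∈ K := (mem_colonIdeal _ _ _).mp h3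
  have : s ^ M * p * x = p * (s ^ M * x) := by ring
  rw [this]; exact Ideal.mul_mem_left _ _ h4

theorem exists_mul_mem_of_pow_mul_mem_subset [IsRegularLocalRing (Localization.AtPrime q)] {d : ℕ}
    (hd : ringKrullDim (Localization.AtPrime q) = d) (e : ℕ) (he : 0 < e) (π : Fin d → Λ)
    (hπ : Ideal.span (Set.range fun i => algebraMap Λ (Localization.AtPrime q) (π i)) =
      IsLocalRing.maximalIdeal (Localization.AtPrime q))
    (T : Finset (Fin d)) (i : Fin d) (hi : i ∉ T) (j : ℕ) (x : Λ)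
    (hx : π i ^ j * x ∈ KT e π T) : ∃ s, s ∉ q ∧ s * x ∈ KT e π T := by
  apply exists_mul_mem_of_map_mem q
  rw [KT_map]
  apply mem_of_pow_mul_mem_subset hd (fun i => algebraMap Λ (Localization.AtPrime q) (π i)) hπ e he
    T i hi j
  have h1 := Ideal.mem_map_of_mem (algebraMap Λ (Localization.AtPrime q)) hx
  rw [KT_map, map_mul, map_pow] at h1
  exact h1

/-- **Parameters with annihilator conditions for all sub-collections.** -/
theorem exists_params_subset [IsRegularLocalRing (Localization.AtPrime q)] {d : ℕ}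
    (hd : ringKrullDim (Localization.AtPrime q) = d) (e : ℕ) (he : 0 < e) (a : Fin d → Λ)
    (ha : Ideal.span (Set.range fun i => algebraMap Λ (Localization.AtPrime q) (a i)) =
      IsLocalRing.maximalIdeal (Localization.AtPrime q)) :
    ∀ k ≤ d, ∃ π : Fin d → Λ, (∀ i, ∃ u, u ∉ q ∧ π i = u * a i) ∧
      ∀ i : Fin d, (i : ℕ) < k → ∀ T : Finset (Fin d), (∀ l ∈ T, l < i) →
        ∀ x, π i ^ 2 * x ∈ KT e π T → π i * x ∈ KT e π T := by
  classical
  intro k
  induction k with
  | zero =>
    intro _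
    refine ⟨a, fun i => ⟨1, fun h => (Ideal.IsPrime.ne_top ‹q.IsPrime›)
      ((Ideal.eq_top_iff_one _).mpr h), (one_mul _).symm⟩, fun i hi => absurd hi (Nat.not_lt_zero _)⟩
  | succ k ih =>
    intro hk
    obtain ⟨π, hπu, hπ3⟩ := ih (by omega)
    choose u hu hπa using hπu
    have hπspan : Ideal.span (Set.range fun i => algebraMap Λ (Localization.AtPrime q) (π i)) =
        IsLocalRing.maximalIdeal (Localization.AtPrime q) := by
      rw [← ha]
      apply span_range_eq_of_unit_mul _ _ (fun i => algebraMap Λ (Localization.AtPrime q) (u i))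
      · intro i
        exact IsLocalization.map_units (Localization.AtPrime q) (⟨u i, hu i⟩ : q.primeCompl)
      · intro i
        rw [hπa i, map_mul]
    obtain ⟨i₀, hi₀⟩ : ∃ i₀ : Fin d, (i₀ : ℕ) = k := ⟨⟨k, by omega⟩, rfl⟩
    obtain ⟨t, htq, ht⟩ := multi_step q (π i₀)
      (((Finset.univ.filter fun l : Fin d => l < i₀).powerset).image (KT e π))
      (fun K hK j x hx => by
        obtain ⟨T, hT, rfl⟩ := Finset.mem_image.mp hK
        have hi₀T : i₀ ∉ T := fun h => by
          have := Finset.mem_powerset.mp hT h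
          simp at this
        exact exists_mul_mem_of_pow_mul_mem_subset q hd e he π hπspan T i₀ hi₀T j x hx)
    refine ⟨Function.update π i₀ (t * π i₀), ?_, ?_⟩
    · intro i
      by_cases hi : i = i₀
      · rw [hi, Function.update_self]
        exact ⟨t * u i₀, fun h => (‹q.IsPrime›.mem_or_mem h).elim htq (hu i₀),
          by rw [hπa i₀]; ring⟩
      · rw [Function.update_of_ne hi]
        exact ⟨u i, hu i, hπa i⟩
    · intro i hik T hT x hx
      have hle : i ≤ i₀ := by rw [Fin.le_def, hi₀]; omega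
      have hi₀T : i₀ ∉ T := fun h => absurd (hT i₀ h) (not_lt.mpr hle)
      rw [KT_update e π i₀ (t * π i₀) T hi₀T] at hx ⊢
      by_cases hi : i = i₀
      · rw [hi] at hx ⊢
        rw [Function.update_self] at hx ⊢
        refine ht _ ?_ x hx
        refine Finset.mem_image.mpr ⟨T, Finset.mem_powerset.mpr ?_, rfl⟩
        intro l hl
        rw [Finset.mem_filter]
        exact ⟨Finset.mem_univ _, hi ▸ hT l hl⟩
      · rw [Function.update_of_ne hi] at hx ⊢
        have hlt : (i : ℕ) < k := by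
          have : (i : ℕ) ≠ k := fun h => hi (Fin.ext (h.trans hi₀.symm))
          omega
        exact hπ3 i hlt T hT x hx

end Params

end Groth.Agent.H5.Ins
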