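import Mathlib
import Groth.Agent.Lib.Helper5.Ins.C
import Groth.Agent.Lib.Helper5.Sep.E

/-! The annihilator conditions for `γ_i = π_i t_i` in `P[t_1, …, t_d]`. -/

set_option autoImplicit false
universe u

namespace Groth.Agent.H5.Ins

open MvPolynomial

section D
variable {P : Type u} [CommRing P] {d : ℕ} (π : Fin d → P) (e : ℕ)

theorem KT_mono {T T' : Finset (Fin d)} (h : T ⊆ T') : KT e π T ≤ KT e π T' :=
  Ideal.span_mono (Set.image_mono (by exact_mod_cast h))

/-- the indices `l < i` with `e ≤ α l`. -/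
def Tset (i : Fin d) (α : Fin d →₀ ℕ) : Finset (Fin d) :=
  Finset.univ.filter fun l => l < i ∧ e ≤ α l

theorem mem_Tset (i : Fin d) (α : Fin d →₀ ℕ) (l : Fin d) : l ∈ Tset e i α ↔ l < i ∧ e ≤ α l := by
  simp [Tset]

theorem X_mul_mem_J (i : Fin d) (l : Fin d) (y : MvPolynomial (Fin d) P)
    (hy : ∀ α, coeff α y ∈ KT e π (Tset e i α)) :
    ∀ α, coeff α (X l * y) ∈ KT e π (Tset e i α) := by
  classical
  intro α
  rw [coeff_X_mul']
  split_ifs with h
  · refine KT_mono π e ?_ (hy _)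
    intro l' hl'
    rw [mem_Tset] at hl' ⊢
    refine ⟨hl'.1, le_trans hl'.2 ?_⟩
    rw [Finsupp.tsub_apply]
    exact Nat.sub_le _ _
  · exact Ideal.zero_mem _

theorem mul_mem_J (i : Fin d) (r : MvPolynomial (Fin d) P) :
    ∀ y : MvPolynomial (Fin d) P, (∀ α, coeff α y ∈ KT e π (Tset e i α)) →
      ∀ α, coeff α (r * y) ∈ KT e π (Tset e i α) := by
  induction r using MvPolynomial.induction_on with
  | C a =>
    intro y hy α
    rw [coeff_C_mul]
    exact Ideal.mul_mem_left _ _ (hy α)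
  | add p q hp hq =>
    intro y hy α
    rw [add_mul, coeff_add]
    exact Ideal.add_mem _ (hp y hy α) (hq y hy α)
  | mul_X p l hp =>
    intro y hy α
    rw [mul_assoc]
    exact hp _ (X_mul_mem_J π e i l y hy) α

/-- the ideal of polynomials whose coefficients satisfy the monomial membership conditions. -/
def JI (i : Fin d) : Ideal (MvPolynomial (Fin d) P) where
  carrier := {y | ∀ α, coeff α y ∈ KT e π (Tset e i α)}
  add_mem' := by
    intro a b ha hb α
    rw [coeff_add]
    exact Ideal.add_mem _ (ha α) (hb α)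
  zero_mem' := by
    intro α
    rw [coeff_zero]
    exact Ideal.zero_mem _
  smul_mem' := by
    intro r y hy
    exact mul_mem_J π e i r y hy

theorem mem_JI (i : Fin d) (y : MvPolynomial (Fin d) P) :
    y ∈ JI π e i ↔ ∀ α, coeff α y ∈ KT e π (Tset e i α) := Iff.rfl

/-- the generators. -/
theorem gamma_pow (j : Fin d) (m : ℕ) :
    (C (π j) * X j : MvPolynomial (Fin d) P) ^ m = monomial (Finsupp.single j m) (π j ^ m) := by
  rw [mul_pow, ← map_pow, X_pow_eq_monomial, C_mul_monomial, mul_one]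

theorem span_le_JI (i : Fin d) :
    Ideal.span ((fun j => (C (π j) * X j : MvPolynomial (Fin d) P) ^ e) '' {j | j < i}) ≤
      JI π e i := by
  classical
  rw [Ideal.span_le]
  rintro _ ⟨j, hj, rfl⟩
  show ∀ α, coeff α ((C (π j) * X j : MvPolynomial (Fin d) P) ^ e) ∈ KT e π (Tset e i α)
  intro α
  rw [gamma_pow, coeff_monomial]
  split_ifs with h
  · refine Ideal.subset_span ⟨j, ?_, rfl⟩
    rw [Finset.mem_coe, mem_Tset]
    refine ⟨hj, ?_⟩
    rw [← h, Finsupp.single_eq_same]
  · exact Ideal.zero_mem _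

theorem monomial_mem_span (i : Fin d) (α : Fin d →₀ ℕ) (a : P) (ha : a ∈ KT e π (Tset e i α)) :
    monomial α a ∈
      Ideal.span ((fun j => (C (π j) * X j : MvPolynomial (Fin d) P) ^ e) '' {j | j < i}) := by
  classical
  unfold KT at ha
  refine Submodule.span_induction ?_ ?_ ?_ ?_ ha
  · rintro _ ⟨l, hl, rfl⟩
    rw [Finset.mem_coe, mem_Tset] at hl
    have h1 : Finsupp.single l e ≤ α := by
      rw [Finsupp.single_le_iff]
      exact hl.2
    have h2 : monomial α (π l ^ e) =
        monomial (α - Finsupp.single l e) (1 : P) * (C (π l) * X l : MvPolynomial (Fin d) P) ^ e := by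
      rw [gamma_pow, monomial_mul, one_mul, tsub_add_cancel_of_le h1]
    rw [h2]
    exact Ideal.mul_mem_left _ _ (Ideal.subset_span ⟨l, hl.1, rfl⟩)
  · rw [map_zero]; exact Ideal.zero_mem _
  · intro x y _ _ hx hy
    rw [map_add]; exact Ideal.add_mem _ hx hy
  · intro r x _ hx
    rw [smul_eq_mul, ← C_mul_monomial]
    exact Ideal.mul_mem_left _ _ hx

theorem JI_le_span (i : Fin d) :
    JI π e i ≤
      Ideal.span ((fun j => (C (π j) * X j : MvPolynomial (Fin d) P) ^ e) '' {j | j < i}) := by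
  intro y hy
  rw [← support_sum_monomial_coeff y]
  refine Ideal.sum_mem _ fun α _ => ?_
  exact monomial_mem_span π e i α _ (hy α)

theorem JI_eq_span (i : Fin d) :
    JI π e i =
      Ideal.span ((fun j => (C (π j) * X j : MvPolynomial (Fin d) P) ^ e) '' {j | j < i}) :=
  le_antisymm (JI_le_span π e i) (span_le_JI π e i)

theorem Tset_add_single (i : Fin d) (α : Fin d →₀ ℕ) (m : ℕ) :
    Tset e i (Finsupp.single i m + α) = Tset e i α := by
  ext l
  rw [mem_Tset, mem_Tset]
  constructor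
  · rintro ⟨h1, h2⟩
    refine ⟨h1, ?_⟩
    rwa [Finsupp.add_apply, Finsupp.single_eq_of_ne (ne_of_lt h1), zero_add] at h2
  · rintro ⟨h1, h2⟩
    refine ⟨h1, ?_⟩
    rwa [Finsupp.add_apply, Finsupp.single_eq_of_ne (ne_of_lt h1), zero_add]

/-- **The annihilator conditions in `P[t]`** for `γ_i ^ c`, `γ_i = π_i t_i`. -/
theorem ann_cond_gamma (c : ℕ) (hc : 0 < c)
    (hP : ∀ (i : Fin d) (T : Finset (Fin d)), (∀ l ∈ T, l < i) →
      ∀ x : P, π i ^ 2 * x ∈ KT (c * 8) π T → π i * x ∈ KT (c * 8) π T)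
    (i : Fin d) (y : MvPolynomial (Fin d) P)
    (h : ((C (π i) * X i : MvPolynomial (Fin d) P) ^ c) ^ 2 * y ∈
      Ideal.span ((fun j => ((C (π j) * X j : MvPolynomial (Fin d) P) ^ c) ^ 8) '' {j | j < i})) :
    (C (π i) * X i : MvPolynomial (Fin d) P) ^ c * y ∈
      Ideal.span ((fun j => ((C (π j) * X j : MvPolynomial (Fin d) P) ^ c) ^ 8) '' {j | j < i}) := by
  classical
  have hset : (fun j => ((C (π j) * X j : MvPolynomial (Fin d) P) ^ c) ^ 8) '' {j | j < i} =
      (fun j => (C (π j) * X j : MvPolynomial (Fin d) P) ^ (c * 8)) '' {j | j < i} := by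
    refine Set.image_congr fun j _ => ?_
    rw [pow_mul]
  rw [hset] at h ⊢
  rw [← JI_eq_span] at h ⊢
  rw [← pow_mul, gamma_pow] at h
  rw [gamma_pow, mem_JI]
  intro β
  rw [coeff_monomial_mul']
  split_ifs with hle
  · obtain ⟨α, rfl⟩ : ∃ α, β = Finsupp.single i c + α :=
      ⟨β - Finsupp.single i c, (add_tsub_cancel_of_le hle).symm⟩
    rw [add_tsub_cancel_left, Tset_add_single]
    have h1 := (mem_JI π (c * 8) i _).mp h (Finsupp.single i (c * 2) + α)
    rw [coeff_monomial_mul, Tset_add_single] at h1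
    refine Groth.Agent.H5.Sep.ann_cond_pow _ (π i) c hc ?_ _ ?_
    · intro x hx
      exact hP i _ (fun l hl => ((mem_Tset _ _ _ _).mp hl).1) x hx
    · rw [← pow_mul]; exact h1
  · exact Ideal.zero_mem _

end D

end Groth.Agent.H5.Ins
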