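import Mathlib
import Groth.Agent.Lib.Helper5.CA.CoeffUniq

/-! Derivations of polynomial rings and of local rings with a coefficient field mod `𝔪²`. -/

set_option autoImplicit false
universe u

namespace Groth.Agent.H5.Ins

open MvPolynomial IsLocalRing

/-- a "derivation" of a polynomial ring vanishing on the constants is determined by its values
on the variables. -/
theorem deriv_formula {k : Type*} [CommRing k] {σ : Type*} [Fintype σ] {K : Type*} [CommRing K]
    (ev : MvPolynomial σ k →+* K) (δ : MvPolynomial σ k → K)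
    (hadd : ∀ f g, δ (f + g) = δ f + δ g)
    (hmul : ∀ f g, δ (f * g) = ev f * δ g + ev g * δ f) (hC : ∀ c, δ (C c) = 0)
    (f : MvPolynomial σ k) : δ f = ∑ j, ev (pderiv j f) * δ (X j) := by
  classical
  induction f using MvPolynomial.induction_on with
  | C a =>
    rw [hC]
    symm
    apply Finset.sum_eq_zero
    intro j _
    rw [pderiv_C, map_zero, zero_mul]
  | add p q hp hq =>
    rw [hadd, hp, hq, ← Finset.sum_add_distrib]
    refine Finset.sum_congr rfl fun j _ => ?_
    rw [map_add, map_add, add_mul]
  | mul_X p i hp =>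
    rw [hmul, hp]
    have h1 : ∀ j, ev (pderiv j (p * X i)) * δ (X j) =
        ev (X i) * (ev (pderiv j p) * δ (X j)) + (if j = i then ev p * δ (X i) else 0) := by
      intro j
      rw [Derivation.leibniz, pderiv_X, smul_eq_mul, smul_eq_mul, map_add, map_mul, map_mul]
      by_cases h : j = i
      · subst h
        rw [Pi.single_eq_same, map_one, if_pos rfl]; ring
      · rw [Pi.single_eq_of_ne (Ne.symm h), map_zero, if_neg h]; ring
    rw [Finset.sum_congr rfl fun j _ => h1 j, Finset.sum_add_distrib, ← Finset.mul_sum,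
      Finset.sum_ite_eq' Finset.univ i, if_pos (Finset.mem_univ _)]
    ring

section Theta
variable {A : Type u} [CommRing A] [IsLocalRing A]

/-- a coefficient field modulo `𝔪²` over a perfect field. -/
theorem exists_section_mod_sq (k₀ : Type u) [Field k₀] [PerfectField k₀] [Algebra k₀ A] :
    ∃ σ : ResidueField A →+* A ⧸ maximalIdeal A ^ 2,
      ∀ (c : ResidueField A) (a : A), Ideal.Quotient.mk _ a = σ c → residue A a = c := by
  haveI := Groth.Agent.H5.CA.formallySmooth_of_perfectField k₀ (ResidueField A)
  let g : (A ⧸ maximalIdeal A ^ 2) →ₐ[k₀] ResidueField A :=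
    Ideal.Quotient.factorₐ k₀ (Ideal.pow_le_self two_ne_zero)
  have hg : Function.Surjective g := Ideal.Quotient.factor_surjective (Ideal.pow_le_self two_ne_zero)
  have hker : IsNilpotent (RingHom.ker (g : (A ⧸ maximalIdeal A ^ 2) →+* ResidueField A)) := by
    refine ⟨2, ?_⟩
    have h1 : RingHom.ker (g : (A ⧸ maximalIdeal A ^ 2) →+* ResidueField A) =
        (maximalIdeal A).map (Ideal.Quotient.mk (maximalIdeal A ^ 2)) :=
      Ideal.Quotient.factor_ker (Ideal.pow_le_self two_ne_zero)
    rw [h1, ← Ideal.map_pow, Ideal.map_quotient_self]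
    rfl
  let σ : ResidueField A →ₐ[k₀] A ⧸ maximalIdeal A ^ 2 :=
    Algebra.FormallySmooth.liftOfSurjective (AlgHom.id k₀ (ResidueField A)) g hg hker
  have hσ : ∀ c, g (σ c) = c := fun c =>
    Algebra.FormallySmooth.liftOfSurjective_apply (AlgHom.id k₀ (ResidueField A)) g hg hker c
  refine ⟨σ.toRingHom, fun c a hca => ?_⟩
  have h2 := hσ c
  have h3 : σ c = Ideal.Quotient.mk _ a := hca.symm
  rw [h3] at h2
  exact h2

/-- the derivation `A → κ` attached to a coefficient field modulo `𝔪²` and a linear form on the
cotangent space. -/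
theorem exists_derivation_of_section (σ : ResidueField A →+* A ⧸ maximalIdeal A ^ 2)
    (hσ : ∀ (c : ResidueField A) (a : A), Ideal.Quotient.mk _ a = σ c → residue A a = c)
    (ξ : CotangentSpace A →ₗ[ResidueField A] ResidueField A) :
    ∃ D : A → ResidueField A, (∀ a b, D (a + b) = D a + D b) ∧
      (∀ a b, D (a * b) = residue A a * D b + residue A b * D a) ∧
      ∀ (m : A) (hm : m ∈ maximalIdeal A), D m = ξ ((maximalIdeal A).toCotangent ⟨m, hm⟩) := by
  classical
  have hs : ∀ c : ResidueField A, ∃ a : A, Ideal.Quotient.mk (maximalIdeal A ^ 2) a = σ c :=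
    fun c => Ideal.Quotient.mk_surjective (σ c)
  choose s hs using hs
  have hres : ∀ c, residue A (s c) = c := fun c => hσ c _ (hs c)
  have hmem : ∀ a : A, a - s (residue A a) ∈ maximalIdeal A := by
    intro a
    rw [← residue_eq_zero_iff, map_sub, hres, sub_self]
  let Θ : A → CotangentSpace A := fun a => (maximalIdeal A).toCotangent ⟨a - s (residue A a), hmem a⟩
  have hsq : ∀ z : A, Ideal.Quotient.mk (maximalIdeal A ^ 2) z = 0 → z ∈ maximalIdeal A ^ 2 :=
    fun z hz => Ideal.Quotient.eq_zero_iff_mem.mp hz
  have hΘadd : ∀ a b, Θ (a + b) = Θ a + Θ b := by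
    intro a b
    show (maximalIdeal A).toCotangent _ = (maximalIdeal A).toCotangent _ + (maximalIdeal A).toCotangent _
    rw [← map_add, Ideal.toCotangent_eq]
    apply hsq
    simp only [Submodule.coe_add, map_sub, map_add, hs]
    ring
  have hsmul : ∀ (a : A) (x : maximalIdeal A),
      residue A a • (maximalIdeal A).toCotangent x = (maximalIdeal A).toCotangent (a • x) := by
    intro a x
    rw [map_smul]
    exact (IsScalarTower.algebraMap_smul (ResidueField A) a ((maximalIdeal A).toCotangent x))
  have hΘmul : ∀ a b, Θ (a * b) = residue A a • Θ b + residue A b • Θ a := by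
    intro a b
    show (maximalIdeal A).toCotangent _ = residue A a • (maximalIdeal A).toCotangent _ +
      residue A b • (maximalIdeal A).toCotangent _
    rw [hsmul, hsmul, ← map_add, Ideal.toCotangent_eq]
    have h1 : (a - s (residue A a)) * (b - s (residue A b)) ∈ maximalIdeal A ^ 2 := by
      rw [pow_two]
      exact Ideal.mul_mem_mul (hmem a) (hmem b)
    have h2 : s (residue A a) * s (residue A b) - s (residue A (a * b)) ∈ maximalIdeal A ^ 2 := by
      apply hsq
      rw [map_sub, map_mul, hs, hs, hs, map_mul, map_mul, sub_self]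
    have h3 : ((⟨a * b - s (residue A (a * b)), hmem (a * b)⟩ : maximalIdeal A) : A) -
        ((a • (⟨b - s (residue A b), hmem b⟩ : maximalIdeal A) +
          b • (⟨a - s (residue A a), hmem a⟩ : maximalIdeal A) : maximalIdeal A) : A) =
        (s (residue A a) * s (residue A b) - s (residue A (a * b))) -
          (a - s (residue A a)) * (b - s (residue A b)) := by
      simp only [Submodule.coe_add, Submodule.coe_smul, smul_eq_mul]
      ring
    rw [h3]
    exact Ideal.sub_mem _ h2 h1
  refine ⟨fun a => ξ (Θ a), ?_, ?_, ?_⟩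
  · intro a b
    show ξ (Θ (a + b)) = _
    rw [hΘadd, map_add]
  · intro a b
    show ξ (Θ (a * b)) = _
    rw [hΘmul, map_add, map_smul, map_smul, smul_eq_mul, smul_eq_mul]
  · intro m hm
    show ξ (Θ m) = _
    congr 1
    show (maximalIdeal A).toCotangent _ = _
    rw [Ideal.toCotangent_eq]
    have h0 : residue A m = 0 := (residue_eq_zero_iff m).mpr hm
    show m - s (residue A m) - m ∈ maximalIdeal A ^ 2
    rw [h0]
    have : m - s 0 - m = - s 0 := by ring
    rw [this]
    apply neg_mem
    apply hsq
    rw [hs, map_zero]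

end Theta

end Groth.Agent.H5.Ins
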