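import Mathlib
import Groth.Prelude.Def_CAlgX
import Groth.Agent.Lib.Helper5.Ins.E1
import Groth.Agent.Lib.Helper5.Imp.Imp1

/-! Proposition B (Stacks 07F2-type): regular parameters of `k[y]_𝔭` stay independent in `𝔪/𝔪²`. -/

set_option autoImplicit false
universe u

namespace Groth.Agent.H5.Ins

open MvPolynomial IsLocalRing Groth.Agent.H5.CoeffUniq

set_option maxHeartbeats 1600000 in
theorem propB_aux {k L : Type u} [Field k] [CommRing L] [IsLocalRing L] [IsNoetherianRing L]
    [Algebra k L] (hL : CAlgX.IsAdicFormallySmooth k L (maximalIdeal L)) {t : ℕ}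
    (φ' : MvPolynomial (Fin t) k →ₐ[k] L) (𝔭 : Ideal (MvPolynomial (Fin t) k)) [𝔭.IsPrime]
    (h𝔭 : ∀ f, f ∈ 𝔭 ↔ φ' f ∈ maximalIdeal L)
    (H2 : ∀ f ∈ 𝔭, ∀ j, pderiv j f ∈ 𝔭) :
    ∃ (d₀ : ℕ) (x : Fin d₀ → MvPolynomial (Fin t) k), (∀ i, x i ∈ 𝔭) ∧
      Ideal.span (Set.range fun i => algebraMap (MvPolynomial (Fin t) k)
        (Localization.AtPrime 𝔭) (x i)) = maximalIdeal (Localization.AtPrime 𝔭) ∧
      ∀ b : Fin d₀ → L, ∑ i, b i * φ' (x i) ∈ maximalIdeal L ^ 2 → ∀ i, b i ∈ maximalIdeal L := by
  classical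
  haveI : IsNoetherianRing (Localization.AtPrime 𝔭) :=
    IsLocalization.isNoetherianRing 𝔭.primeCompl (Localization.AtPrime 𝔭) inferInstance
  -- the local homomorphism `A₀ → L`
  have hunit : ∀ y : 𝔭.primeCompl, IsUnit ((φ' : MvPolynomial (Fin t) k →+* L) y) := by
    intro y
    have h1 : φ' (y : MvPolynomial (Fin t) k) ∉ maximalIdeal L := fun h => y.2 ((h𝔭 _).mpr h)
    by_contra hnu
    exact h1 ((mem_maximalIdeal _).mpr hnu)
  obtain ⟨f₀, hf₀⟩ : ∃ f₀ : Localization.AtPrime 𝔭 →+* L, ∀ f : MvPolynomial (Fin t) k,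
      f₀ (algebraMap _ (Localization.AtPrime 𝔭) f) = φ' f :=
    ⟨IsLocalization.lift hunit, fun f => IsLocalization.lift_eq hunit f⟩
  have hιmem : ∀ f ∈ 𝔭, algebraMap (MvPolynomial (Fin t) k) (Localization.AtPrime 𝔭) f ∈
      maximalIdeal (Localization.AtPrime 𝔭) := fun f hf =>
    (IsLocalization.AtPrime.to_map_mem_maximal_iff (Localization.AtPrime 𝔭) 𝔭 f).mpr hf
  have hmax : maximalIdeal (Localization.AtPrime 𝔭) =
      Ideal.span (algebraMap (MvPolynomial (Fin t) k) (Localization.AtPrime 𝔭) '' (𝔭 : Set _)) := by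
    rw [← Localization.AtPrime.map_eq_maximalIdeal]
    rfl
  have hf₀max : ∀ a ∈ maximalIdeal (Localization.AtPrime 𝔭), f₀ a ∈ maximalIdeal L := by
    intro a ha
    have : maximalIdeal (Localization.AtPrime 𝔭) ≤ (maximalIdeal L).comap f₀ := by
      rw [hmax, Ideal.span_le]
      rintro _ ⟨f, hf, rfl⟩
      show f₀ _ ∈ maximalIdeal L
      rw [hf₀]
      exact (h𝔭 f).mp hf
    exact this ha
  obtain ⟨ι₀, hι₀⟩ : ∃ ι₀ : ResidueField (Localization.AtPrime 𝔭) →+* ResidueField L,
      ∀ a, ι₀ (residue _ a) = residue L (f₀ a) :=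
    ⟨Ideal.Quotient.lift (maximalIdeal (Localization.AtPrime 𝔭)) ((residue L).comp f₀)
      (fun a ha => (residue_eq_zero_iff _).mpr (hf₀max a ha)), fun a => rfl⟩
  have hf₀k : ∀ c : k, f₀ (algebraMap k (Localization.AtPrime 𝔭) c) = algebraMap k L c := by
    intro c
    rw [IsScalarTower.algebraMap_apply k (MvPolynomial (Fin t) k) (Localization.AtPrime 𝔭), hf₀,
      AlgHom.commutes]
  -- spanning set of the cotangent space
  obtain ⟨S, hSdef⟩ : ∃ S : Set (CotangentSpace (Localization.AtPrime 𝔭)),
      S = {v | ∃ (f : MvPolynomial (Fin t) k) (hf : f ∈ 𝔭),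
        v = (maximalIdeal (Localization.AtPrime 𝔭)).toCotangent ⟨_, hιmem f hf⟩} := ⟨_, rfl⟩
  have key : ∀ a ∈ Ideal.span (algebraMap (MvPolynomial (Fin t) k) (Localization.AtPrime 𝔭) ''
      (𝔭 : Set _)), ∀ ha : a ∈ maximalIdeal (Localization.AtPrime 𝔭),
      (maximalIdeal (Localization.AtPrime 𝔭)).toCotangent ⟨a, ha⟩ ∈
        Submodule.span (ResidueField (Localization.AtPrime 𝔭)) S := by
    intro a ha
    refine Submodule.span_induction (p := fun a _ => ∀ ha : a ∈ maximalIdeal (Localization.AtPrime 𝔭),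
      (maximalIdeal (Localization.AtPrime 𝔭)).toCotangent ⟨a, ha⟩ ∈
        Submodule.span (ResidueField (Localization.AtPrime 𝔭)) S) ?_ ?_ ?_ ?_ ha
    · rintro _ ⟨f, hf, rfl⟩ ha'
      apply Submodule.subset_span
      rw [hSdef]
      exact ⟨f, hf, rfl⟩
    · intro ha'
      have : (⟨0, ha'⟩ : maximalIdeal (Localization.AtPrime 𝔭)) = 0 := rfl
      rw [this, map_zero]
      exact Submodule.zero_mem _
    · intro a b ha1 hb1 iha ihb hab
      have ha2 : a ∈ maximalIdeal (Localization.AtPrime 𝔭) := hmax ▸ ha1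
      have hb2 : b ∈ maximalIdeal (Localization.AtPrime 𝔭) := hmax ▸ hb1
      have : (⟨a + b, hab⟩ : maximalIdeal (Localization.AtPrime 𝔭)) = ⟨a, ha2⟩ + ⟨b, hb2⟩ := rfl
      rw [this, map_add]
      exact Submodule.add_mem _ (iha ha2) (ihb hb2)
    · intro r a ha1 iha hra
      have ha2 : a ∈ maximalIdeal (Localization.AtPrime 𝔭) := hmax ▸ ha1
      have : (⟨r • a, hra⟩ : maximalIdeal (Localization.AtPrime 𝔭)) = r • ⟨a, ha2⟩ := rfl
      rw [this, map_smul,
        ← IsScalarTower.algebraMap_smul (ResidueField (Localization.AtPrime 𝔭)) r]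
      exact Submodule.smul_mem _ _ (iha ha2)
  have hSspan : Submodule.span (ResidueField (Localization.AtPrime 𝔭)) S = ⊤ := by
    rw [eq_top_iff]
    intro v _
    obtain ⟨⟨a, ha⟩, rfl⟩ := (maximalIdeal (Localization.AtPrime 𝔭)).toCotangent_surjective v
    exact key a (hmax ▸ ha) ha
  obtain ⟨bs, hbs, hbspan, hbli⟩ := exists_linearIndependent
    (ResidueField (Localization.AtPrime 𝔭)) S
  let B0 : Module.Basis bs (ResidueField (Localization.AtPrime 𝔭))
      (CotangentSpace (Localization.AtPrime 𝔭)) := Module.Basis.mk hbli (by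
    rw [Subtype.range_coe, hbspan, hSspan])
  haveI : Finite bs := Module.Finite.finite_basis B0
  haveI : Fintype bs := Fintype.ofFinite _
  obtain ⟨d₀, hd₀⟩ : ∃ d₀, d₀ = Fintype.card bs := ⟨_, rfl⟩
  let eqv : bs ≃ Fin d₀ := hd₀ ▸ Fintype.equivFin bs
  let B : Module.Basis (Fin d₀) (ResidueField (Localization.AtPrime 𝔭))
      (CotangentSpace (Localization.AtPrime 𝔭)) := B0.reindex eqv
  have hBS : ∀ i, B i ∈ S := by
    intro i
    rw [Module.Basis.reindex_apply, Module.Basis.mk_apply]
    exact hbs (eqv.symm i).2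
  rw [hSdef] at hBS
  choose x hx hxB using hBS
  refine ⟨d₀, x, hx, ?_, ?_⟩
  · -- generation
    have h1 : Submodule.span (ResidueField (Localization.AtPrime 𝔭))
        ((maximalIdeal (Localization.AtPrime 𝔭)).toCotangent '' (Set.range fun i =>
          (⟨_, hιmem (x i) (hx i)⟩ : maximalIdeal (Localization.AtPrime 𝔭)))) = ⊤ := by
      rw [← Set.range_comp]
      have : ((maximalIdeal (Localization.AtPrime 𝔭)).toCotangent ∘ fun i =>
          (⟨_, hιmem (x i) (hx i)⟩ : maximalIdeal (Localization.AtPrime 𝔭))) = B := by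
        funext i
        exact (hxB i).symm
      rw [this]
      exact B.span_eq
    rw [CotangentSpace.span_image_eq_top_iff] at h1
    have h2 := congrArg (Submodule.map (maximalIdeal (Localization.AtPrime 𝔭)).subtype) h1
    rw [Submodule.map_span, Submodule.map_top, Submodule.range_subtype, ← Set.range_comp] at h2
    exact h2
  · -- independence
    letI algk₀ : Algebra (PrimeField k) (Localization.AtPrime 𝔭) :=
      ((algebraMap k (Localization.AtPrime 𝔭)).comp (PrimeField.val k)).toAlgebra
    obtain ⟨σ, hσ⟩ := exists_section_mod_sq (A := Localization.AtPrime 𝔭) (PrimeField k)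
    have hD := fun l : Fin d₀ => exists_derivation_of_section σ hσ (B.coord l)
    choose D hDadd hDmul hDm using hD
    have hresk : ∀ c : k, ι₀ (residue _ (algebraMap k (Localization.AtPrime 𝔭) c)) =
        algebraMap k (ResidueField L) c := by
      intro c
      rw [hι₀, hf₀k]
      rfl
    let Dk : Fin d₀ → Derivation ℤ k (ResidueField L) := fun l =>
      Derivation.mk' (AddMonoidHom.toIntLinearMap (AddMonoidHom.mk'
        (fun c => ι₀ (D l (algebraMap k (Localization.AtPrime 𝔭) c)))
        (by intro a b; simp only [map_add, hDadd])))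
        (by
          intro a b
          show ι₀ (D l (algebraMap k (Localization.AtPrime 𝔭) (a * b))) =
            a • ι₀ (D l (algebraMap k (Localization.AtPrime 𝔭) b)) +
              b • ι₀ (D l (algebraMap k (Localization.AtPrime 𝔭) a))
          rw [map_mul, hDmul, map_add, map_mul, map_mul, hresk, hresk, Algebra.smul_def,
            Algebra.smul_def])
    have hDk : ∀ l c, Dk l c = ι₀ (D l (algebraMap k (Localization.AtPrime 𝔭) c)) := fun _ _ => rfl
    have hs : Function.Surjective (algebraMap L (ResidueField L)) := residue_surjective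
    have hD' := fun l : Fin d₀ => Groth.Agent.H5.Imp.exists_derivation_extension hs hL (Dk l)
    choose D' hD' using hD'
    -- the values on `φ' (x i)`
    have hval : ∀ l i, D' l (φ' (x i)) = if i = l then 1 else 0 := by
      intro l i
      let ev : MvPolynomial (Fin t) k →+* ResidueField L := (residue L).comp φ'
      have hev : ∀ f, ι₀ (residue _ (algebraMap (MvPolynomial (Fin t) k)
          (Localization.AtPrime 𝔭) f)) = ev f := by
        intro f
        rw [hι₀, hf₀]
        rfl
      have hform := deriv_formula ev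
        (fun f => ι₀ (D l (algebraMap _ (Localization.AtPrime 𝔭) f)) - D' l (φ' f))
        (by
          intro f g
          simp only [map_add, hDadd]
          ring)
        (by
          intro f g
          simp only [map_mul, hDmul, map_add, hev, Derivation.leibniz, Algebra.smul_def]
          have h1 : algebraMap L (ResidueField L) (φ' f) = ev f := rfl
          have h2 : algebraMap L (ResidueField L) (φ' g) = ev g := rfl
          rw [h1, h2]
          ring)
        (by
          intro c
          have h1 : algebraMap (MvPolynomial (Fin t) k) (Localization.AtPrime 𝔭) (C c) =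
              algebraMap k (Localization.AtPrime 𝔭) c :=
            (IsScalarTower.algebraMap_apply k (MvPolynomial (Fin t) k)
              (Localization.AtPrime 𝔭) c).symm
          have h2 : φ' (C c) = algebraMap k L c := φ'.commutes c
          show ι₀ (D l (algebraMap _ (Localization.AtPrime 𝔭) (C c))) - D' l (φ' (C c)) = 0
          rw [h1, h2, hD', hDk, sub_self])
        (x i)
      have hzero : ∑ j, ev (pderiv j (x i)) *
          (ι₀ (D l (algebraMap (MvPolynomial (Fin t) k) (Localization.AtPrime 𝔭) (X j))) -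
            D' l (φ' (X j))) = 0 := by
        apply Finset.sum_eq_zero
        intro j _
        have h1 : ev (pderiv j (x i)) = 0 :=
          (residue_eq_zero_iff _).mpr ((h𝔭 _).mp (H2 _ (hx i) j))
        rw [h1, zero_mul]
      rw [hzero, sub_eq_zero] at hform
      rw [← hform, hDm l _ (hιmem (x i) (hx i)), ← hxB i, Module.Basis.coord_apply,
        Module.Basis.repr_self, Finsupp.single_apply]
      split_ifs
      · rw [map_one]
      · rw [map_zero]
    intro b hb l
    have hD'sq : ∀ m ∈ maximalIdeal L ^ 2, D' l m = 0 := by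
      intro m hm
      rw [pow_two] at hm
      refine Submodule.mul_induction_on hm (fun u hu v hv => ?_) (fun u v hu hv => ?_)
      · rw [Derivation.leibniz, Algebra.smul_def, Algebra.smul_def]
        have h1 : algebraMap L (ResidueField L) u = 0 := (residue_eq_zero_iff u).mpr hu
        have h2 : algebraMap L (ResidueField L) v = 0 := (residue_eq_zero_iff v).mpr hv
        rw [h1, h2, zero_mul, zero_mul, add_zero]
      · rw [map_add, hu, hv, add_zero]
    have h1 := hD'sq _ hb
    rw [map_sum] at h1
    have h2 : ∀ i, D' l (b i * φ' (x i)) = if i = l then residue L (b i) else 0 := by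
      intro i
      rw [Derivation.leibniz, Algebra.smul_def, Algebra.smul_def, hval]
      have h3 : algebraMap L (ResidueField L) (φ' (x i)) = 0 :=
        (residue_eq_zero_iff _).mpr ((h𝔭 _).mp (hx i))
      rw [h3, zero_mul, add_zero]
      split_ifs
      · rw [mul_one]; rfl
      · rw [mul_zero]
    rw [Finset.sum_congr rfl fun i _ => h2 i, Finset.sum_ite_eq' Finset.univ l,
      if_pos (Finset.mem_univ _)] at h1
    exact (residue_eq_zero_iff _).mp h1

end Groth.Agent.H5.Ins
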