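import Mathlib
import Groth.Agent.Lib.Helper5.Des.S31A

/-! Generators: lifting a coefficient field to the ring (Frobenius trick), differentials. -/

set_option autoImplicit false
universe u

namespace Groth.Agent.H5.Ins

open IsLocalRing MvPolynomial

/-- **Frobenius trick.** Finitely many constants of the residue field are generated by residues of
elements `g` of `Λ` whose images in the Artinian quotient lie in the coefficient field `σ`. -/
theorem exists_gens {Λ : Type u} [CommRing Λ] (𝔮 : Ideal Λ) (p : ℕ) [Fact p.Prime]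
    (N : ℕ) {Λb : Type u} [CommRing Λb] [IsLocalRing Λb] [CharP Λb p]
    (ρ : Λ →+* Λb) (hρunit : ∀ v, v ∉ 𝔮 → IsUnit (ρ v))
    (hρsurj : ∀ y : Λb, ∃ u v, v ∉ 𝔮 ∧ y * ρ v = ρ u)
    (hnil : maximalIdeal Λb ^ N = ⊥)
    (σ : ResidueField Λb →+* Λb) (hσ : ∀ c, residue Λb (σ c) = c)
    (T₀ : Finset (ResidueField Λb)) :
    ∃ G : Finset Λ, (∀ g ∈ G, ρ g = σ (residue Λb (ρ g))) ∧
      (↑T₀ : Set (ResidueField Λb)) ⊆
        Subfield.closure ((fun g => residue Λb (ρ g)) '' (G : Set Λ)) := by
  classical
  have hp : Nat.Prime p := Fact.out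
  obtain ⟨q, hq⟩ : ∃ q, q = p ^ N := ⟨_, rfl⟩
  have hNq : N ≤ q := hq ▸ (Nat.lt_pow_self hp.one_lt).le
  have hq1 : 1 ≤ q := hq ▸ Nat.one_le_pow _ _ hp.pos
  have frob : ∀ y : Λb, y ^ q = σ (residue Λb y ^ q) := by
    intro y
    have h1 : y - σ (residue Λb y) ∈ maximalIdeal Λb := by
      rw [← residue_eq_zero_iff, map_sub, hσ, sub_self]
    have h2 : (y - σ (residue Λb y)) ^ q = 0 := by
      have h3 := Ideal.pow_mem_pow h1 q
      have h4 := Ideal.pow_le_pow_right (I := maximalIdeal Λb) hNq h3
      rw [hnil] at h4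
      exact h4
    rw [hq, sub_pow_char_pow, sub_eq_zero] at h2
    rw [hq, h2, map_pow]
  choose u v hv huv using hρsurj
  refine ⟨T₀.image (fun t => u (σ t) * v (σ t) ^ (q - 1)) ∪ T₀.image (fun t => v (σ t) ^ q),
    ?_, ?_⟩
  · intro g hg
    rcases Finset.mem_union.mp hg with hg | hg
    · obtain ⟨t, _, rfl⟩ := Finset.mem_image.mp hg
      have h1 : ρ (u (σ t) * v (σ t) ^ (q - 1)) = σ t * σ (residue Λb (ρ (v (σ t))) ^ q) := by
        rw [map_mul, map_pow, ← huv, ← frob, mul_assoc, ← pow_succ', Nat.sub_add_cancel hq1]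
      rw [h1, map_mul, hσ, hσ, map_mul]
    · obtain ⟨t, _, rfl⟩ := Finset.mem_image.mp hg
      have h1 : ρ (v (σ t) ^ q) = (ρ (v (σ t))) ^ q := map_pow _ _ _
      rw [h1, map_pow]
      exact frob _
  · intro t ht
    have hne : residue Λb (ρ (v (σ t))) ^ q ≠ 0 := by
      apply pow_ne_zero
      exact ((hρunit _ (hv (σ t))).map (residue Λb)).ne_zero
    have h1 : residue Λb (ρ (u (σ t) * v (σ t) ^ (q - 1))) =
        t * residue Λb (ρ (v (σ t))) ^ q := by
      rw [map_mul, map_pow, ← huv, mul_assoc, ← pow_succ', Nat.sub_add_cancel hq1, map_mul,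
        hσ, map_pow]
    have h2 : residue Λb (ρ (v (σ t) ^ q)) = residue Λb (ρ (v (σ t))) ^ q := by
      rw [map_pow, map_pow]
    have h3 : t = residue Λb (ρ (u (σ t) * v (σ t) ^ (q - 1))) *
        (residue Λb (ρ (v (σ t) ^ q)))⁻¹ := by
      rw [h1, h2, mul_assoc, mul_inv_cancel₀ hne, mul_one]
    rw [SetLike.mem_coe, h3]
    refine Subfield.mul_mem _ (Subfield.subset_closure ?_)
      (Subfield.inv_mem _ (Subfield.subset_closure ?_))
    · exact ⟨_, Finset.mem_coe.mpr (Finset.mem_union_left _ (Finset.mem_image_of_mem _ ht)), rfl⟩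
    · exact ⟨_, Finset.mem_coe.mpr (Finset.mem_union_right _ (Finset.mem_image_of_mem _ ht)), rfl⟩

/-- the differentials of field generators span the module of differentials. -/
theorem span_D_of_adjoin_eq_top {k F : Type*} [Field k] [Field F] [Algebra k F] (S : Set F)
    (h : IntermediateField.adjoin k S = ⊤) :
    Submodule.span F ((fun s => KaehlerDifferential.D k F s) '' S) = ⊤ := by
  rw [eq_top_iff, ← KaehlerDifferential.span_range_derivation, Submodule.span_le]
  rintro _ ⟨x, rfl⟩
  have hx : x ∈ IntermediateField.adjoin k S := by rw [h]; exact IntermediateField.mem_top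
  induction hx using IntermediateField.adjoin_induction with
  | mem x hx => exact Submodule.subset_span ⟨x, hx, rfl⟩
  | algebraMap c =>
    rw [SetLike.mem_coe, Derivation.map_algebraMap]
    exact Submodule.zero_mem _
  | add x y _ _ hx hy =>
    rw [SetLike.mem_coe, map_add]
    exact Submodule.add_mem _ hx hy
  | inv x _ hx =>
    rw [SetLike.mem_coe, Derivation.leibniz_inv]
    exact Submodule.smul_mem _ _ hx
  | mul x y _ _ hx hy =>
    rw [SetLike.mem_coe, Derivation.leibniz]
    exact Submodule.add_mem _ (Submodule.smul_mem _ _ hy) (Submodule.smul_mem _ _ hx)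

/-- if the differentials of the `g j` are linearly independent, the ideal of relations of the `g j`
is stable under partial derivatives. -/
theorem aeval_pderiv_eq_zero {k F : Type*} [Field k] [Field F] [Algebra k F] {κ : Type*}
    [Fintype κ] (g : κ → F)
    (hli : LinearIndependent F (fun j => KaehlerDifferential.D k F (g j)))
    (f : MvPolynomial κ k) (hf : aeval g f = 0) (j : κ) : aeval g (pderiv j f) = 0 := by
  classical
  have h1 := Groth.Agent.H5.Des.S31.chain_rule (aeval g : MvPolynomial κ k →ₐ[k] F)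
    (KaehlerDifferential.D k F) f
  rw [hf, map_zero] at h1
  simp only [aeval_X] at h1
  exact Fintype.linearIndependent_iff.mp hli _ h1.symm j

end Groth.Agent.H5.Ins
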