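import Mathlib
import Groth.Prelude.Def_Smoothing

/-! Auxiliary facts: quotients by powers of the maximal ideal, flat descent, unramified residue
field extensions are ind-smooth. -/

set_option autoImplicit false
universe u

namespace Groth.Agent.H5.Ins

open IsLocalRing TensorProduct

section QuotPow
variable {L : Type*} [CommRing L] [IsLocalRing L]

theorem nontrivial_quot_pow (N : ℕ) (hN : 0 < N) : Nontrivial (L ⧸ maximalIdeal L ^ N) := by
  apply Ideal.Quotient.nontrivial_iff.mpr
  intro h
  have h1 : maximalIdeal L ^ N ≤ maximalIdeal L := Ideal.pow_le_self (Nat.pos_iff_ne_zero.mp hN)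
  rw [h, top_le_iff] at h1
  exact (Ideal.IsPrime.ne_top inferInstance) h1

theorem isLocalRing_quot_pow (N : ℕ) (hN : 0 < N) : IsLocalRing (L ⧸ maximalIdeal L ^ N) :=
  haveI := nontrivial_quot_pow (L := L) N hN
  IsLocalRing.of_surjective' (Ideal.Quotient.mk _) Ideal.Quotient.mk_surjective

theorem mk_mem_maximalIdeal_quot_pow (N : ℕ) [IsLocalRing (L ⧸ maximalIdeal L ^ N)] (a : L) :
    Ideal.Quotient.mk (maximalIdeal L ^ N) a ∈ maximalIdeal (L ⧸ maximalIdeal L ^ N) ↔
      a ∈ maximalIdeal L := by
  haveI : IsLocalHom (Ideal.Quotient.mk (maximalIdeal L ^ N)) :=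
    IsLocalHom.of_surjective _ Ideal.Quotient.mk_surjective
  rw [mem_maximalIdeal, mem_maximalIdeal, mem_nonunits_iff, mem_nonunits_iff, not_iff_not]
  exact isUnit_map_iff (Ideal.Quotient.mk (maximalIdeal L ^ N)) a

theorem maximalIdeal_quot_pow (N : ℕ) [IsLocalRing (L ⧸ maximalIdeal L ^ N)] :
    maximalIdeal (L ⧸ maximalIdeal L ^ N) =
      (maximalIdeal L).map (Ideal.Quotient.mk (maximalIdeal L ^ N)) := by
  ext y
  obtain ⟨a, rfl⟩ := Ideal.Quotient.mk_surjective y
  rw [mk_mem_maximalIdeal_quot_pow, Ideal.mem_map_iff_of_surjective _ Ideal.Quotient.mk_surjective]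
  constructor
  · intro ha
    exact ⟨a, ha, rfl⟩
  · rintro ⟨b, hb, hba⟩
    have h1 : b - a ∈ maximalIdeal L ^ N := Ideal.Quotient.eq.mp hba
    by_cases hN : N = 0
    · exfalso
      subst hN
      have : (1 : L ⧸ maximalIdeal L ^ 0) = 0 := by
        rw [← map_one (Ideal.Quotient.mk (maximalIdeal L ^ 0)), Ideal.Quotient.eq_zero_iff_mem,
          pow_zero, Ideal.one_eq_top]
        trivial
      exact one_ne_zero this
    · have h2 := (Ideal.pow_le_self hN : maximalIdeal L ^ N ≤ maximalIdeal L) h1
      have h3 := (maximalIdeal L).sub_mem hb h2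
      simpa using h3

theorem maximalIdeal_quot_pow_pow (N : ℕ) [IsLocalRing (L ⧸ maximalIdeal L ^ N)] :
    maximalIdeal (L ⧸ maximalIdeal L ^ N) ^ N = ⊥ := by
  rw [maximalIdeal_quot_pow, ← Ideal.map_pow, Ideal.map_quotient_self]

theorem isArtinianRing_quot_pow [IsNoetherianRing L] (N : ℕ)
    [IsLocalRing (L ⧸ maximalIdeal L ^ N)] : IsArtinianRing (L ⧸ maximalIdeal L ^ N) := by
  rw [isArtinianRing_iff_isNilpotent_maximalIdeal]
  exact ⟨N, maximalIdeal_quot_pow_pow N⟩

end QuotPow

/-- flatness descends along a faithfully flat extension of the target. -/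
theorem flat_of_flat_of_faithfullyFlat (R D S : Type*) [CommRing R] [CommRing D] [CommRing S]
    [Algebra R D] [Algebra D S] [Algebra R S] [IsScalarTower R D S] [Module.Flat R S]
    [Module.FaithfullyFlat D S] : Module.Flat R D := by
  rw [Module.Flat.iff_lTensor_preserves_injective_linearMap]
  intro N P _ _ _ _ f hf
  have h1 : Function.Injective (LinearMap.lTensor S f) :=
    Module.Flat.lTensor_preserves_injective_linearMap f hf
  rw [← LinearMap.baseChange_eq_ltensor (A := D),
    ← Module.FaithfullyFlat.lTensor_injective_iff_injective D S (LinearMap.baseChange D f)]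
  have key : ∀ z : S ⊗[D] (D ⊗[R] N),
      AlgebraTensorModule.cancelBaseChange R D D S P
        (LinearMap.lTensor S (LinearMap.baseChange D f) z) =
      LinearMap.lTensor S f (AlgebraTensorModule.cancelBaseChange R D D S N z) := by
    intro z
    induction z using TensorProduct.induction_on with
    | zero => simp only [map_zero]
    | tmul s w =>
      induction w using TensorProduct.induction_on with
      | zero => simp only [tmul_zero, map_zero]
      | tmul d n =>
        rw [LinearMap.lTensor_tmul, LinearMap.baseChange_tmul,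
          AlgebraTensorModule.cancelBaseChange_tmul, AlgebraTensorModule.cancelBaseChange_tmul,
          LinearMap.lTensor_tmul]
      | add w₁ w₂ h₁ h₂ =>
        rw [tmul_add, map_add, map_add, h₁, h₂, map_add, map_add]
    | add z₁ z₂ h₁ h₂ =>
      rw [map_add, map_add, h₁, h₂, map_add, map_add]
  intro z z' hzz
  have h3 := congrArg (AlgebraTensorModule.cancelBaseChange R D D S P) hzz
  rw [key, key] at h3
  exact (AlgebraTensorModule.cancelBaseChange R D D S N).injective (h1 h3)

/-- a finitely generated field extension whose differentials over `k` are spanned by differentials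
of elements of the subfield `K₀` is (étale, hence) ind-smooth over `K₀`. -/
theorem indSmooth_of_span_D {k K₀ F : Type u} [Field k] [Field K₀] [Field F] [Algebra k K₀]
    [Algebra k F] [Algebra K₀ F] [IsScalarTower k K₀ F] [Algebra.EssFiniteType k F]
    (S : Set K₀)
    (hS : Submodule.span F ((fun s => KaehlerDifferential.D k F (algebraMap K₀ F s)) '' S) = ⊤) :
    Smoothing.IndSmooth K₀ F := by
  haveI : Algebra.FormallyUnramified K₀ F := by
    refine ⟨⟨fun ω ω' => ?_⟩⟩
    have hz : ∀ ω : Ω[F⁄K₀], ω = 0 := by
      intro ω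
      obtain ⟨η, rfl⟩ := KaehlerDifferential.map_surjective k K₀ F ω
      have hη : η ∈ Submodule.span F
          ((fun s => KaehlerDifferential.D k F (algebraMap K₀ F s)) '' S) := by
        rw [hS]; exact Submodule.mem_top
      refine Submodule.span_induction ?_ ?_ ?_ ?_ hη
      · rintro _ ⟨s, _, rfl⟩
        rw [KaehlerDifferential.map_D, Algebra.algebraMap_self_apply, Derivation.map_algebraMap]
      · exact map_zero _
      · intro x y _ _ hx hy
        rw [map_add, hx, hy, add_zero]
      · intro c x _ hx
        rw [map_smul, hx, smul_zero]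
    rw [hz ω, hz ω']
  haveI : Algebra.EssFiniteType K₀ F := Algebra.EssFiniteType.of_comp k K₀ F
  haveI : Algebra.FormallyEtale K₀ F := Algebra.FormallyEtale.of_formallyUnramified_of_field K₀ F
  haveI : Module.Finite K₀ F := Algebra.FormallyUnramified.finite_of_free K₀ F
  haveI : Algebra.FinitePresentation K₀ F := Algebra.FinitePresentation.of_finiteType.mp inferInstance
  haveI : Algebra.Smooth K₀ F := ⟨inferInstance, inferInstance⟩
  intro A _ _ hA f
  exact ⟨F, inferInstance, inferInstance, inferInstance, f, AlgHom.id K₀ F, by ext; rfl⟩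

end Groth.Agent.H5.Ins
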