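import Mathlib
import Groth.Prelude.Def_CAlgX
import Groth.Agent.Lib.Helper5.Ins.B
import Groth.Agent.Lib.Helper5.Ins.F
import Groth.Agent.Lib.Helper5.Ins.G1
import Groth.Agent.Lib.Helper5.Imp.Imp2

/-! Stacks 07F3, first stage: the Artinian subalgebra `D` and the generators of its residue field. -/

set_option autoImplicit false
universe u

namespace Groth.Agent.H5.Ins

open IsLocalRing

section
variable {k Λ : Type u} [Field k] [CommRing Λ] [Algebra k Λ] (𝔮 : Ideal Λ) [𝔮.IsPrime] (N : ℕ)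

/-- the Artinian quotient `Λ_𝔮 / 𝔮^N Λ_𝔮`. -/
abbrev Lb : Type u :=
  Localization.AtPrime 𝔮 ⧸ maximalIdeal (Localization.AtPrime 𝔮) ^ N

variable (k) in
/-- the canonical map `Λ → Λ_𝔮 / 𝔮^N Λ_𝔮`. -/
noncomputable def rho : Λ →ₐ[k] Lb 𝔮 N :=
  (Ideal.Quotient.mkₐ k _).comp (IsScalarTower.toAlgHom k Λ (Localization.AtPrime 𝔮))

theorem rho_apply (x : Λ) :
    rho k 𝔮 N x = Ideal.Quotient.mk _ (algebraMap Λ (Localization.AtPrime 𝔮) x) := rfl

variable {𝔮 N}

theorem rho_mem_maximalIdeal [IsLocalRing (Lb 𝔮 N)] (x : Λ) :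
    rho k 𝔮 N x ∈ maximalIdeal (Lb 𝔮 N) ↔ x ∈ 𝔮 := by
  rw [rho_apply, mk_mem_maximalIdeal_quot_pow,
    IsLocalization.AtPrime.to_map_mem_maximal_iff (Localization.AtPrime 𝔮) 𝔮]

theorem isUnit_rho [IsLocalRing (Lb 𝔮 N)] (x : Λ) (hx : x ∉ 𝔮) : IsUnit (rho k 𝔮 N x) := by
  by_contra h
  exact hx ((rho_mem_maximalIdeal x).mp ((mem_maximalIdeal _).mpr h))

theorem exists_rho_eq (y : Lb 𝔮 N) : ∃ u v, v ∉ 𝔮 ∧ y * rho k 𝔮 N v = rho k 𝔮 N u := by
  obtain ⟨l, rfl⟩ := Ideal.Quotient.mk_surjective y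
  obtain ⟨⟨u, v⟩, h⟩ := IsLocalization.surj 𝔮.primeCompl l
  refine ⟨u, v, v.2, ?_⟩
  rw [rho_apply, rho_apply, ← map_mul, h]

theorem map_rho_eq_maximalIdeal [IsLocalRing (Lb 𝔮 N)] :
    𝔮.map (rho k 𝔮 N) = maximalIdeal (Lb 𝔮 N) := by
  rw [maximalIdeal_quot_pow,
    show 𝔮.map (rho k 𝔮 N) = (𝔮.map (algebraMap Λ (Localization.AtPrime 𝔮))).map
      (Ideal.Quotient.mk (maximalIdeal (Localization.AtPrime 𝔮) ^ N)) from (Ideal.map_map _ _).symm,
    Localization.AtPrime.map_eq_maximalIdeal]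

end

set_option maxHeartbeats 1600000 in
theorem stage_one {k Λ : Type u} [Field k] [CommRing Λ] [Algebra k Λ] (𝔮 : Ideal Λ) [𝔮.IsPrime]
    (N : ℕ) (p : ℕ) [Fact p.Prime] [CharP k p] [IsNoetherianRing Λ]
    (hfs : CAlgX.IsAdicFormallySmooth k (Localization.AtPrime 𝔮)
      (maximalIdeal (Localization.AtPrime 𝔮)))
    [IsLocalRing (Lb 𝔮 N)] (E : Finset Λ) {s : ℕ} (gen : Fin s → Λ)
    (hgen : Ideal.span (Set.range gen) = 𝔮) :
    ∃ (D : Subalgebra k (Lb 𝔮 N)) (_ : IsLocalRing D), Module.Flat D (Lb 𝔮 N) ∧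
      Algebra.EssFiniteType k D ∧
      (∀ a : D, a ∈ maximalIdeal D ↔ (a : Lb 𝔮 N) ∈ maximalIdeal (Lb 𝔮 N)) ∧
      (∀ e ∈ E, rho k 𝔮 N e ∈ D) ∧ (∀ i, rho k 𝔮 N (gen i) ∈ D) ∧
      ∃ (t : ℕ) (g : Fin t → Λ) (hg : ∀ j, rho k 𝔮 N (g j) ∈ D),
        LinearIndependent (ResidueField D) (fun j => KaehlerDifferential.D k (ResidueField D)
          (residue D ⟨rho k 𝔮 N (g j), hg j⟩)) ∧
        Submodule.span (ResidueField D) (Set.range fun j =>
          KaehlerDifferential.D k (ResidueField D) (residue D ⟨rho k 𝔮 N (g j), hg j⟩)) = ⊤ := by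
  classical
  haveI : IsNoetherianRing (Localization.AtPrime 𝔮) :=
    IsLocalization.isNoetherianRing 𝔮.primeCompl _ inferInstance
  haveI : IsArtinianRing (Lb 𝔮 N) := isArtinianRing_quot_pow N
  haveI : CharP (Lb 𝔮 N) p := charP_of_injective_algebraMap (algebraMap k (Lb 𝔮 N)).injective p
  have hs : Function.Surjective (algebraMap (Localization.AtPrime 𝔮) (ResidueField (Lb 𝔮 N))) := by
    intro c
    obtain ⟨y, rfl⟩ := residue_surjective c
    obtain ⟨l, rfl⟩ := Ideal.Quotient.mk_surjective y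
    exact ⟨l, rfl⟩
  have hfin := Groth.Agent.H5.Imp.finite_imperfection (A := Localization.AtPrime 𝔮)
    (K := ResidueField (Lb 𝔮 N)) hs hfs
  have hlam : Ideal.span (Set.range fun i => rho k 𝔮 N (gen i)) = maximalIdeal (Lb 𝔮 N) := by
    rw [← map_rho_eq_maximalIdeal (k := k) (𝔮 := 𝔮)]
    have h1 : 𝔮.map (rho k 𝔮 N) = (Ideal.span (Set.range gen)).map (rho k 𝔮 N) := by rw [hgen]
    rw [h1, Ideal.map_span, ← Set.range_comp]
    rfl
  obtain ⟨σ, hσ, T₀, hT₀⟩ := main_plus p hfin (fun i => rho k 𝔮 N (gen i)) hlam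
    (E.image (rho k 𝔮 N))
  obtain ⟨G, hGσ, hGT⟩ := exists_gens 𝔮 p N (rho k 𝔮 N : Λ →+* Lb 𝔮 N)
    (fun v hv => isUnit_rho v hv) exists_rho_eq (maximalIdeal_quot_pow_pow N) σ hσ T₀
  obtain ⟨T, hTdef⟩ : ∃ T : Finset (ResidueField (Lb 𝔮 N)),
      T = G.image (fun g => residue (Lb 𝔮 N) (rho k 𝔮 N g)) := ⟨_, rfl⟩
  have hTcoe : (T : Set (ResidueField (Lb 𝔮 N))) =
      (fun g => residue (Lb 𝔮 N) (rho k 𝔮 N g)) '' (G : Set Λ) := by
    rw [hTdef, Finset.coe_image]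
  have hT : (↑T₀ : Set (ResidueField (Lb 𝔮 N))) ⊆
      Subfield.closure (Set.range (algebraMap k (ResidueField (Lb 𝔮 N))) ∪ ↑T) := by
    refine hGT.trans ?_
    rw [hTcoe]
    exact Subfield.closure_mono Set.subset_union_right
  obtain ⟨D, hloc, hED, hlamD, hart, hflat, hess, hσD, hresD, hmaxD⟩ := hT₀ T hT
  haveI := hloc
  have hGD : ∀ g ∈ G, rho k 𝔮 N g ∈ D := by
    intro g hg
    rw [show rho k 𝔮 N g = (rho k 𝔮 N : Λ →+* Lb 𝔮 N) g from rfl, hGσ g hg]
    apply hσD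
    apply Subfield.subset_closure
    right
    rw [hTcoe]
    exact ⟨g, hg, rfl⟩
  refine ⟨D, hloc, hflat, hess, hmaxD, ?_, hlamD, ?_⟩
  · intro e he
    exact hED (Finset.mem_coe.mpr (Finset.mem_image_of_mem _ he))
  -- the residue field of `D`
  haveI : IsLocalHom (algebraMap D (Lb 𝔮 N)) := by
    refine ⟨fun a ha => ?_⟩
    by_contra hnu
    have h1 := (hmaxD a).mp ((mem_maximalIdeal _).mpr hnu)
    exact h1 ha
  let ε : ResidueField D →ₐ[k] ResidueField (Lb 𝔮 N) :=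
    { ResidueField.map (algebraMap D (Lb 𝔮 N)) with
      commutes' := fun c => rfl }
  have hε : ∀ a : D, ε (residue D a) = residue (Lb 𝔮 N) (a : Lb 𝔮 N) := fun a => rfl
  obtain ⟨gt, hgt⟩ : ∃ gt : G → ResidueField D,
      ∀ g : G, gt g = residue D ⟨rho k 𝔮 N g.1, hGD g.1 g.2⟩ := ⟨_, fun _ => rfl⟩
  have hadj : IntermediateField.adjoin k (Set.range gt) = ⊤ := by
    rw [eq_top_iff]
    intro x _
    obtain ⟨a, rfl⟩ := residue_surjective x
    have h1 : ε (residue D a) ∈ (IntermediateField.adjoin k (Set.range gt)).map ε := by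
      rw [IntermediateField.adjoin_map, hε]
      have h2 := hresD a a.2
      have h3 : ε '' Set.range gt = (T : Set (ResidueField (Lb 𝔮 N))) := by
        rw [hTcoe, ← Set.range_comp]
        ext y
        constructor
        · rintro ⟨g, rfl⟩
          refine ⟨g.1, g.2, ?_⟩
          rw [Function.comp_apply, hgt, hε]
        · rintro ⟨g, hg, rfl⟩
          refine ⟨⟨g, hg⟩, ?_⟩
          rw [Function.comp_apply, hgt, hε]
      rw [h3]
      exact h2
    obtain ⟨y, hy, hyx⟩ := h1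
    have := ε.toRingHom.injective hyx
    rw [← this]
    exact hy
  have hspan := span_D_of_adjoin_eq_top (k := k) (Set.range gt) hadj
  haveI : Module.Finite (ResidueField D) (Submodule.span (ResidueField D)
      ((fun s => KaehlerDifferential.D k (ResidueField D) s) '' Set.range gt)) :=
    FiniteDimensional.span_of_finite _ ((Set.finite_range gt).image _)
  obtain ⟨f, hfmem, hfspan, hfli⟩ := Submodule.exists_fun_fin_finrank_span_eq (ResidueField D)
    ((fun s => KaehlerDifferential.D k (ResidueField D) s) '' Set.range gt)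
  have hf' : ∀ i, ∃ g : G, f i = KaehlerDifferential.D k (ResidueField D) (gt g) := by
    intro i
    obtain ⟨_, ⟨g, rfl⟩, h⟩ := hfmem i
    exact ⟨g, h.symm⟩
  choose g₀ hg₀ using hf'
  refine ⟨_, fun i => (g₀ i).1, fun i => hGD _ (g₀ i).2, ?_, ?_⟩
  · have : (fun j => KaehlerDifferential.D k (ResidueField D)
        (residue D ⟨rho k 𝔮 N (g₀ j).1, hGD _ (g₀ j).2⟩)) = f := by
      funext j
      rw [hg₀, hgt]
    rw [this]
    exact hfli
  · have : (fun j => KaehlerDifferential.D k (ResidueField D)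
        (residue D ⟨rho k 𝔮 N (g₀ j).1, hGD _ (g₀ j).2⟩)) = f := by
      funext j
      rw [hg₀, hgt]
    rw [this, hfspan, hspan]

end Groth.Agent.H5.Ins
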