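import Mathlib

/-! Cotangent space criteria and completion of a linearly independent family. -/

set_option autoImplicit false
universe u

namespace Groth.Agent.H5.Ins

open IsLocalRing

section Cot
variable {R : Type*} [CommRing R] [IsLocalRing R] {τ : Type*} [Fintype τ] (z : τ → R)
  (hz : ∀ i, z i ∈ maximalIdeal R)

theorem toCotangent_sum (c : τ → R) (hsum : ∑ i, c i * z i ∈ maximalIdeal R) :
    (maximalIdeal R).toCotangent ⟨∑ i, c i * z i, hsum⟩ =
      ∑ i, residue R (c i) • (maximalIdeal R).toCotangent ⟨z i, hz i⟩ := by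
  have h1 : (⟨∑ i, c i * z i, hsum⟩ : maximalIdeal R) =
      ∑ i, c i • (⟨z i, hz i⟩ : maximalIdeal R) := by
    apply Subtype.ext
    rw [AddSubmonoidClass.coe_finsetSum]
    rfl
  rw [h1, map_sum]
  refine Finset.sum_congr rfl fun i _ => ?_
  rw [map_smul]
  exact (IsScalarTower.algebraMap_smul (ResidueField R) (c i) _).symm

theorem linearIndependent_cot
    (h : ∀ c : τ → R, ∑ i, c i * z i ∈ maximalIdeal R ^ 2 → ∀ i, c i ∈ maximalIdeal R) :
    LinearIndependent (ResidueField R) (fun i => (maximalIdeal R).toCotangent ⟨z i, hz i⟩) := by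
  rw [Fintype.linearIndependent_iff]
  intro g hg i
  have hc : ∀ i, ∃ c : R, residue R c = g i := fun i => residue_surjective (g i)
  choose c hc using hc
  have hsum : ∑ i, c i * z i ∈ maximalIdeal R :=
    Ideal.sum_mem _ fun i _ => Ideal.mul_mem_left _ _ (hz i)
  have h1 := toCotangent_sum z hz c hsum
  simp only [hc] at h1
  rw [hg, Ideal.toCotangent_eq_zero] at h1
  rw [← hc i, residue_eq_zero_iff]
  exact h c h1 i

theorem mem_of_linearIndependent_cot
    (hli : LinearIndependent (ResidueField R)
      (fun i => (maximalIdeal R).toCotangent ⟨z i, hz i⟩))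
    (c : τ → R) (hc : ∑ i, c i * z i ∈ maximalIdeal R ^ 2) : ∀ i, c i ∈ maximalIdeal R := by
  intro i
  have hsum : ∑ i, c i * z i ∈ maximalIdeal R :=
    Ideal.sum_mem _ fun i _ => Ideal.mul_mem_left _ _ (hz i)
  have h1 := toCotangent_sum z hz c hsum
  rw [(Ideal.toCotangent_eq_zero _ _).mpr hc] at h1
  have := Fintype.linearIndependent_iff.mp hli _ h1.symm i
  exact (residue_eq_zero_iff _).mp this

theorem span_cot_eq_top_iff [IsNoetherianRing R] :
    Submodule.span (ResidueField R)
      (Set.range fun i => (maximalIdeal R).toCotangent ⟨z i, hz i⟩) = ⊤ ↔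
      Ideal.span (Set.range z) = maximalIdeal R := by
  have h0 : (Set.range fun i => (maximalIdeal R).toCotangent ⟨z i, hz i⟩) =
      (maximalIdeal R).toCotangent '' (Set.range fun i => (⟨z i, hz i⟩ : maximalIdeal R)) := by
    rw [← Set.range_comp]
    rfl
  rw [h0, CotangentSpace.span_image_eq_top_iff]
  have h1 : Submodule.map (maximalIdeal R).subtype
      (Submodule.span R (Set.range fun i => (⟨z i, hz i⟩ : maximalIdeal R))) =
      Ideal.span (Set.range z) := by
    rw [Submodule.map_span, ← Set.range_comp]
    rfl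
  constructor
  · intro h
    rw [← h1, h, Submodule.map_top, Submodule.range_subtype]
  · intro h
    apply Submodule.map_injective_of_injective (maximalIdeal R).injective_subtype
    rw [h1, h, Submodule.map_top, Submodule.range_subtype]

end Cot

/-- completing a linearly independent family to a basis by members of a spanning family. -/
theorem exists_completion {K V : Type*} [Field K] [AddCommGroup V] [Module K V]
    [Module.Finite K V] {d₀ : ℕ} (v : Fin d₀ → V) (hv : LinearIndependent K v) {ι : Type*}
    (w : ι → V) (hw : Submodule.span K (Set.range w) = ⊤) :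
    ∃ (c : Set V) (_ : Fintype c) (a : c → ι), (∀ y : c, w (a y) = y) ∧
      LinearIndependent K (Sum.elim v (fun y : c => (y : V))) ∧
      Submodule.span K (Set.range (Sum.elim v (fun y : c => (y : V)))) = ⊤ := by
  classical
  have hs : LinearIndepOn K id (Set.range v) := hv.linearIndepOn_id
  have hst : Set.range v ⊆ Set.range v ∪ Set.range w := Set.subset_union_left
  obtain ⟨b, hbdef⟩ : ∃ b, b = hs.extend hst := ⟨_, rfl⟩
  have hb1 : Set.range v ⊆ b := hbdef ▸ hs.subset_extend hst
  have hb2 : b ⊆ Set.range v ∪ Set.range w := hbdef ▸ hs.extend_subset hst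
  have hb3 : Set.range v ∪ Set.range w ⊆ Submodule.span K b := hbdef ▸ hs.subset_span_extend hst
  have hb4 : LinearIndependent K (fun x : b => (x : V)) := by
    have := hs.linearIndepOn_extend hst
    rw [← hbdef] at this
    exact this
  have hbfin : b.Finite := hb4.setFinite
  obtain ⟨c, hcdef⟩ : ∃ c, c = b \ Set.range v := ⟨_, rfl⟩
  have hcfin : c.Finite := hcdef ▸ hbfin.subset Set.diff_subset
  haveI : Fintype c := hcfin.fintype
  have hcw : ∀ y : c, ∃ j, w j = y := by
    intro y
    have h1 : (y : V) ∈ b \ Set.range v := hcdef ▸ y.2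
    rcases hb2 h1.1 with h | h
    · exact absurd h h1.2
    · exact h
  choose a ha using hcw
  refine ⟨c, inferInstance, a, ha, ?_, ?_⟩
  · let f : Fin d₀ ⊕ c → b := Sum.elim (fun i => ⟨v i, hb1 ⟨i, rfl⟩⟩)
      (fun y => ⟨y, (hcdef ▸ y.2 : (y : V) ∈ b \ Set.range v).1⟩)
    have hf : Function.Injective f := by
      rintro (i | y) (i' | y') h
      · have : v i = v i' := congrArg Subtype.val h
        rw [hv.injective this]
      · exfalso
        have h1 : v i = (y' : V) := congrArg Subtype.val h
        exact (hcdef ▸ y'.2 : (y' : V) ∈ b \ Set.range v).2 ⟨i, h1⟩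
      · exfalso
        have h1 : (y : V) = v i' := congrArg Subtype.val h
        exact (hcdef ▸ y.2 : (y : V) ∈ b \ Set.range v).2 ⟨i', h1.symm⟩
      · have h1 : ((f (Sum.inr y) : b) : V) = ((f (Sum.inr y') : b) : V) := congrArg Subtype.val h
        have h2 : (y : V) = (y' : V) := h1
        rw [Subtype.ext h2]
    have h2 := hb4.comp f hf
    have h3 : (fun x : b => (x : V)) ∘ f = Sum.elim v (fun y : c => (y : V)) := by
      funext x
      rcases x with i | y <;> rfl
    rw [h3] at h2
    exact h2
  · rw [eq_top_iff, ← hw, Submodule.span_le]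
    have hbr : b ⊆ Set.range (Sum.elim v (fun y : c => (y : V))) := by
      intro y hy
      by_cases h : y ∈ Set.range v
      · obtain ⟨i, rfl⟩ := h
        exact ⟨Sum.inl i, rfl⟩
      · have hyc : y ∈ c := by rw [hcdef]; exact ⟨hy, h⟩
        exact ⟨Sum.inr ⟨y, hyc⟩, rfl⟩
    intro y hy
    exact Submodule.span_mono hbr (hb3 (Or.inr hy))

/-- completing a linearly independent family to a basis by members of a spanning family
(abstract index type). -/
theorem exists_completion' {K : Type*} {V : Type u} [Field K] [AddCommGroup V] [Module K V]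
    [Module.Finite K V] {d₀ : ℕ} (v : Fin d₀ → V) (hv : LinearIndependent K v) {ι : Type*}
    (w : ι → V) (hw : Submodule.span K (Set.range w) = ⊤) :
    ∃ (c : Type u) (_ : Fintype c) (a : c → ι),
      LinearIndependent K (Sum.elim v (w ∘ a)) ∧
      Submodule.span K (Set.range (Sum.elim v (w ∘ a))) = ⊤ := by
  obtain ⟨c, hc, a, ha, hli, hspan⟩ := exists_completion v hv w hw
  have : (fun y : c => (y : V)) = w ∘ a := by
    funext y
    exact (ha y).symm
  rw [this] at hli hspan
  exact ⟨c, hc, a, hli, hspan⟩

end Groth.Agent.H5.Ins
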