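import Mathlib
import Groth.Prelude.Def_Smoothing
import Groth.Agent.Lib.Helper5.Ins.G1
import Groth.Agent.Lib.Helper8.Par09.A
import Groth.Agent.Lib.Helper8.SmLift.IndSmoothNil

/-! Polynomial rings in two groups of variables; ind-smoothness of Artinian local algebras. -/

set_option autoImplicit false
universe u v w

namespace Groth.Agent.H5.Ins

open IsLocalRing MvPolynomial

section Poly
variable {k : Type u} [Field k] {κ : Type v} {c : Type w}

/-- the inclusion of the polynomial ring in the first group of variables. -/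
noncomputable def inc : MvPolynomial κ k →ₐ[k] MvPolynomial (κ ⊕ c) k := rename Sum.inl

/-- the retraction setting the second group of variables to zero. -/
noncomputable def ret : MvPolynomial (κ ⊕ c) k →ₐ[k] MvPolynomial κ k :=
  aeval (Sum.elim X (fun _ => 0))

theorem ret_inc (f : MvPolynomial κ k) : ret (c := c) (inc (c := c) f) = f := by
  have : (ret (c := c)).comp (inc (c := c)) = AlgHom.id k (MvPolynomial κ k) := by
    apply MvPolynomial.algHom_ext
    intro i
    simp [ret, inc]
  exact DFunLike.congr_fun this f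

theorem ret_X_inr (y : c) : ret (k := k) (κ := κ) (X (Sum.inr y)) = 0 := by
  simp [ret]

theorem sub_inc_ret_mem (f : MvPolynomial (κ ⊕ c) k) :
    f - inc (ret f) ∈ Ideal.span (Set.range fun y : c =>
      (X (Sum.inr y) : MvPolynomial (κ ⊕ c) k)) := by
  have h : (Ideal.Quotient.mkₐ k (Ideal.span (Set.range fun y : c =>
      (X (Sum.inr y) : MvPolynomial (κ ⊕ c) k)))).comp ((inc (c := c)).comp (ret (c := c))) =
      Ideal.Quotient.mkₐ k _ := by
    apply MvPolynomial.algHom_ext
    rintro (i | y)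
    · simp [ret, inc]
    · rw [AlgHom.comp_apply, AlgHom.comp_apply, ret_X_inr, map_zero, map_zero]
      symm
      show Ideal.Quotient.mk (Ideal.span (Set.range fun y : c =>
        (X (Sum.inr y) : MvPolynomial (κ ⊕ c) k))) (X (Sum.inr y)) = 0
      exact Ideal.Quotient.eq_zero_iff_mem.mpr (Ideal.subset_span ⟨y, rfl⟩)
  have h1 := DFunLike.congr_fun h f
  rw [AlgHom.comp_apply, AlgHom.comp_apply] at h1
  have h2 : Ideal.Quotient.mk (Ideal.span (Set.range fun y : c =>
      (X (Sum.inr y) : MvPolynomial (κ ⊕ c) k))) (f - inc (ret f)) = 0 := by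
    rw [map_sub, sub_eq_zero]
    exact h1.symm
  exact Ideal.Quotient.eq_zero_iff_mem.mp h2

theorem span_eq_maximalIdeal_of_ret [Finite κ] [Finite c]
    {𝔭' : Ideal (MvPolynomial κ k)} [𝔭'.IsPrime]
    {𝔭 : Ideal (MvPolynomial (κ ⊕ c) k)} [𝔭.IsPrime] (h𝔭 : ∀ f, f ∈ 𝔭 ↔ ret f ∈ 𝔭')
    {ι : Type*} (x : ι → MvPolynomial κ k)
    (hx : Ideal.span (Set.range fun i => algebraMap _ (Localization.AtPrime 𝔭') (x i)) =
      maximalIdeal (Localization.AtPrime 𝔭')) :
    Ideal.span (Set.range (Sum.elim
      (fun i => algebraMap _ (Localization.AtPrime 𝔭) (inc (c := c) (x i)))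
      (fun y : c => algebraMap _ (Localization.AtPrime 𝔭)
        (X (Sum.inr y) : MvPolynomial (κ ⊕ c) k)))) = maximalIdeal (Localization.AtPrime 𝔭) := by
  classical
  have hx𝔭' : ∀ i, x i ∈ 𝔭' := by
    intro i
    rw [← IsLocalization.AtPrime.to_map_mem_maximal_iff (Localization.AtPrime 𝔭') 𝔭', ← hx]
    exact Ideal.subset_span ⟨i, rfl⟩
  apply le_antisymm
  · rw [Ideal.span_le]
    rintro _ ⟨(i | y), rfl⟩
    · show algebraMap _ (Localization.AtPrime 𝔭) (inc (x i)) ∈ maximalIdeal _
      rw [IsLocalization.AtPrime.to_map_mem_maximal_iff (Localization.AtPrime 𝔭) 𝔭, h𝔭, ret_inc]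
      exact hx𝔭' i
    · show algebraMap _ (Localization.AtPrime 𝔭) (X (Sum.inr y)) ∈ maximalIdeal _
      rw [IsLocalization.AtPrime.to_map_mem_maximal_iff (Localization.AtPrime 𝔭) 𝔭, h𝔭, ret_X_inr]
      exact 𝔭'.zero_mem
  · rw [← Localization.AtPrime.map_eq_maximalIdeal, Ideal.map_le_iff_le_comap]
    intro f hf
    rw [Ideal.mem_comap]
    have hdec : f = inc (ret f) + (f - inc (ret f)) := by ring
    rw [hdec, map_add]
    refine Ideal.add_mem _ ?_ ?_
    · -- the first part
      have h1 : algebraMap _ (Localization.AtPrime 𝔭') (ret f) ∈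
          (Ideal.span (Set.range x)).map (algebraMap _ (Localization.AtPrime 𝔭')) := by
        rw [Ideal.map_span, ← Set.range_comp]
        show _ ∈ Ideal.span (Set.range fun i => algebraMap _ (Localization.AtPrime 𝔭') (x i))
        rw [hx, IsLocalization.AtPrime.to_map_mem_maximal_iff (Localization.AtPrime 𝔭') 𝔭']
        exact (h𝔭 f).mp hf
      obtain ⟨s, hs, hsf⟩ := Groth.Agent.H8.Par09.exists_mul_mem_of_map_mem 𝔭' _ _ h1
      have h2 : inc (c := c) s * inc (ret f) ∈ Ideal.span (Set.range fun i => inc (c := c) (x i)) := by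
        have := Ideal.mem_map_of_mem ((inc (c := c) : MvPolynomial κ k →ₐ[k] MvPolynomial (κ ⊕ c) k) :
          MvPolynomial κ k →+* MvPolynomial (κ ⊕ c) k) hsf
        rw [Ideal.map_span, ← Set.range_comp] at this
        rw [← map_mul]
        exact this
      have hsu : IsUnit (algebraMap _ (Localization.AtPrime 𝔭) (inc (c := c) s)) := by
        apply IsLocalization.map_units (Localization.AtPrime 𝔭)
          (⟨inc s, fun h => hs (by rw [← ret_inc (c := c) s]; exact (h𝔭 _).mp h)⟩ : 𝔭.primeCompl)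
      rw [← Ideal.unit_mul_mem_iff_mem _ hsu, ← map_mul]
      have h3 := Ideal.mem_map_of_mem (algebraMap _ (Localization.AtPrime 𝔭)) h2
      rw [Ideal.map_span, ← Set.range_comp] at h3
      refine Ideal.span_mono ?_ h3
      rintro _ ⟨i, rfl⟩
      exact ⟨Sum.inl i, rfl⟩
    · have h3 := Ideal.mem_map_of_mem (algebraMap _ (Localization.AtPrime 𝔭)) (sub_inc_ret_mem f)
      rw [Ideal.map_span, ← Set.range_comp] at h3
      refine Ideal.span_mono ?_ h3
      rintro _ ⟨y, rfl⟩
      exact ⟨Sum.inr y, rfl⟩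

end Poly

end Groth.Agent.H5.Ins
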