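import Mathlib
import Groth.Prelude.Def_Smoothing
import Groth.Agent.Lib.Helper5.Ins.G1
import Groth.Agent.Lib.Helper8.SmLift.IndSmoothNil

/-! Ind-smoothness of a flat local homomorphism of Artinian local rings with étale residue field
extension. -/

set_option autoImplicit false
universe u

namespace Groth.Agent.H5.Ins

open IsLocalRing

set_option maxHeartbeats 1000000 in
theorem indSmooth_of_artinian {k S D Λb : Type u} [Field k] [CommRing S] [CommRing D]
    [CommRing Λb] [IsLocalRing S] [IsLocalRing D] [IsLocalRing Λb]
    [Algebra k S] [Algebra k D] [Algebra S D] [IsScalarTower k S D] [Algebra D Λb] [Algebra S Λb]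
    [IsScalarTower S D Λb] [Module.Flat S Λb] [Module.Flat D Λb] [IsLocalHom (algebraMap D Λb)]
    (hnil : IsNilpotent (maximalIdeal S))
    (hmax : (maximalIdeal S).map (algebraMap S Λb) = maximalIdeal Λb)
    [Algebra.EssFiniteType k D] (T : Set S)
    (hT : Submodule.span (ResidueField D) ((fun s => KaehlerDifferential.D k (ResidueField D)
      (residue D (algebraMap S D s))) '' T) = ⊤) :
    Smoothing.IndSmooth S D := by
  haveI : Module.FaithfullyFlat D Λb := Module.FaithfullyFlat.of_flat_of_isLocalHom
  haveI : Module.Flat S D := flat_of_flat_of_faithfullyFlat S D Λb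
  have hmemD : ∀ s ∈ maximalIdeal S, algebraMap S D s ∈ maximalIdeal D := by
    intro s hs
    by_contra hnu
    have hu : IsUnit (algebraMap S D s) := by
      by_contra h
      exact hnu ((mem_maximalIdeal _).mpr h)
    have h1 : IsUnit (algebraMap D Λb (algebraMap S D s)) := hu.map _
    rw [← IsScalarTower.algebraMap_apply] at h1
    have h2 : algebraMap S Λb s ∈ maximalIdeal Λb := hmax ▸ Ideal.mem_map_of_mem _ hs
    exact h2 h1
  have hmapeq : (maximalIdeal S).map (algebraMap S D) = maximalIdeal D := by
    apply le_antisymm
    · rw [Ideal.map_le_iff_le_comap]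
      exact fun s hs => hmemD s hs
    · intro a ha
      have h1 : algebraMap D Λb a ∈ maximalIdeal Λb := by
        rw [mem_maximalIdeal, mem_nonunits_iff]
        intro hu
        exact ha (isUnit_of_map_unit (algebraMap D Λb) a hu)
      rw [← hmax, IsScalarTower.algebraMap_eq S D Λb, ← Ideal.map_map] at h1
      rw [← Ideal.comap_map_eq_self_of_faithfullyFlat (B := Λb) ((maximalIdeal S).map (algebraMap S D))]
      exact h1
  haveI : IsLocalHom (algebraMap S D) := by
    refine ⟨fun s hs => ?_⟩
    by_contra hnu
    exact hmemD s ((mem_maximalIdeal _).mpr hnu) hs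
  haveI : IsScalarTower k (ResidueField S) (ResidueField D) := by
    refine IsScalarTower.of_algebraMap_eq fun c => ?_
    show residue D (algebraMap k D c) = ResidueField.map (algebraMap S D) (residue S (algebraMap k S c))
    rw [ResidueField.map_residue, ← IsScalarTower.algebraMap_apply]
  haveI : Algebra.EssFiniteType k (ResidueField D) := Algebra.EssFiniteType.comp k D (ResidueField D)
  have h1 : Smoothing.IndSmooth (ResidueField S) (ResidueField D) := by
    refine indSmooth_of_span_D (k := k) (residue S '' T) ?_
    rw [Set.image_image]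
    have : (fun x => KaehlerDifferential.D k (ResidueField D)
        (algebraMap (ResidueField S) (ResidueField D) (residue S x))) =
        (fun s => KaehlerDifferential.D k (ResidueField D) (residue D (algebraMap S D s))) := by
      funext x
      rfl
    rw [this]
    exact hT
  refine Groth.Agent.H8.SmLift.indSmooth_of_nilpotent (maximalIdeal S) hnil ?_
  refine Groth.Agent.H8.SmLift.indSmooth_of_ringEquiv' (R := ResidueField S) (Λ := ResidueField D)
    (RingEquiv.refl _) (Ideal.quotEquivOfEq hmapeq) ?_ h1
  intro r'
  obtain ⟨s, rfl⟩ := Ideal.Quotient.mk_surjective r'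
  rfl

end Groth.Agent.H5.Ins
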