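import Mathlib
import Groth.Prelude.Def_CAlgX
import Groth.Prelude.Def_Smoothing
import Groth.Agent.Lib.Helper5.Ins.G2
import Groth.Agent.Lib.Helper5.Ins.G3
import Groth.Agent.Lib.Helper5.Ins.G4
import Groth.Agent.Lib.Helper5.Ins.G5
import Groth.Agent.Lib.Helper5.Ins.E2
import Groth.Agent.Lib.Helper5.FSm.FlatReg
import Groth.Agent.Lib.Helper5.CA.GR2

/-! Stacks 07F3 (Lemma 16.11.3), second stage. -/

set_option autoImplicit false
universe u

namespace Groth.Agent.H5.Ins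

open IsLocalRing MvPolynomial

/-- localizations of polynomial rings (finitely many variables) over a field are regular. -/
theorem isRegularLocalRing_localization_mvPolynomial' (k : Type u) [Field k] (σ : Type u)
    [Finite σ] (p : Ideal (MvPolynomial σ k)) [p.IsPrime] :
    IsRegularLocalRing (Localization.AtPrime p) := by
  haveI : IsNoetherianRing (Localization.AtPrime p) :=
    IsLocalization.isNoetherianRing p.primeCompl _ inferInstance
  haveI : Algebra.FormallySmooth (MvPolynomial σ k) (Localization.AtPrime p) :=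
    Algebra.FormallySmooth.of_isLocalization p.primeCompl
  haveI : Algebra.FormallySmooth k (Localization.AtPrime p) :=
    Algebra.FormallySmooth.comp k (MvPolynomial σ k) _
  exact Groth.Agent.H5.GR.isRegularLocalRing_of_isAdicFormallySmooth k _
    (Groth.Agent.H5.GR.isAdicFormallySmooth_of_formallySmooth k _ _)

set_option maxHeartbeats 4000000 in
theorem main_1613 {k Λ : Type u} [Field k] [CommRing Λ] [Algebra k Λ] (𝔮 : Ideal Λ) [𝔮.IsPrime]
    (N : ℕ) (hN : 0 < N) (p : ℕ) [Fact p.Prime] [CharP k p] [IsNoetherianRing Λ]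
    [IsRegularLocalRing (Localization.AtPrime 𝔮)]
    (hfs : CAlgX.IsAdicFormallySmooth k (Localization.AtPrime 𝔮)
      (maximalIdeal (Localization.AtPrime 𝔮)))
    [IsLocalRing (Lb 𝔮 N)] {d : ℕ} (hd : ringKrullDim (Localization.AtPrime 𝔮) = d)
    (E : Finset Λ) :
    ∃ (σ : Type u) (_ : Fintype σ) (φP : MvPolynomial σ k →ₐ[k] Λ)
      (π : Fin d → MvPolynomial σ k) (D : Subalgebra k (Lb 𝔮 N)) (_ : IsLocalRing D),
      (∀ i, φP (π i) ∈ 𝔮) ∧
      Ideal.span (Set.range fun i => algebraMap _ (Localization.AtPrime (𝔮.comap φP)) (π i)) =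
        maximalIdeal (Localization.AtPrime (𝔮.comap φP)) ∧
      Ideal.span (Set.range fun i => algebraMap Λ (Localization.AtPrime 𝔮) (φP (π i))) =
        maximalIdeal (Localization.AtPrime 𝔮) ∧
      ringKrullDim (Localization.AtPrime (𝔮.comap φP)) = d ∧
      Module.Flat D (Lb 𝔮 N) ∧
      (∀ a : D, a ∈ maximalIdeal D ↔ (a : Lb 𝔮 N) ∈ maximalIdeal (Lb 𝔮 N)) ∧
      (∀ e ∈ E, rho k 𝔮 N e ∈ D) ∧
      ∃ (hPD : ∀ f, rho k 𝔮 N (φP f) ∈ D) (_ : Algebra (Lb (𝔮.comap φP) N) D),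
        (∀ f, algebraMap (Lb (𝔮.comap φP) N) D (rho k (𝔮.comap φP) N f) =
          ⟨rho k 𝔮 N (φP f), hPD f⟩) ∧
        Smoothing.IndSmooth (Lb (𝔮.comap φP) N) D := by
  classical
  haveI : IsNoetherianRing (Localization.AtPrime 𝔮) :=
    IsLocalization.isNoetherianRing 𝔮.primeCompl _ inferInstance
  obtain ⟨s, gen, hgen⟩ := Submodule.fg_iff_exists_fin_generating_family.mp
    (IsNoetherian.noetherian 𝔮)
  have hgen' : Ideal.span (Set.range gen) = 𝔮 := hgen
  have hgen𝔮 : ∀ j, gen j ∈ 𝔮 := fun j => hgen' ▸ Ideal.subset_span ⟨j, rfl⟩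
  obtain ⟨D, hloc, hflat, hess, hmaxD, hED, hgenD, t, g, hg, hli, hspan⟩ :=
    stage_one 𝔮 N p hfs E gen hgen'
  haveI := hloc
  haveI := hflat
  haveI := hess
  -- the first polynomial ring
  obtain ⟨φ', hφ'⟩ : ∃ φ' : MvPolynomial (Fin t) k →ₐ[k] Λ, φ' = aeval g := ⟨_, rfl⟩
  obtain ⟨φ'L, hφ'L⟩ : ∃ φ'L : MvPolynomial (Fin t) k →ₐ[k] Localization.AtPrime 𝔮,
      φ'L = (IsScalarTower.toAlgHom k Λ (Localization.AtPrime 𝔮)).comp φ' := ⟨_, rfl⟩
  have hφ'Lapp : ∀ f, φ'L f = algebraMap Λ (Localization.AtPrime 𝔮) (φ' f) := fun f => by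
    rw [hφ'L]; rfl
  obtain ⟨𝔭', h𝔭'def⟩ : ∃ 𝔭' : Ideal (MvPolynomial (Fin t) k), 𝔭' = 𝔮.comap φ' := ⟨_, rfl⟩
  haveI : 𝔭'.IsPrime := h𝔭'def ▸ Ideal.comap_isPrime φ' 𝔮
  have h𝔭'mem : ∀ f, f ∈ 𝔭' ↔ φ' f ∈ 𝔮 := fun f => by rw [h𝔭'def]; rfl
  have h𝔭'L : ∀ f, f ∈ 𝔭' ↔ φ'L f ∈ maximalIdeal (Localization.AtPrime 𝔮) := fun f => by
    rw [hφ'Lapp, IsLocalization.AtPrime.to_map_mem_maximal_iff (Localization.AtPrime 𝔮) 𝔮, h𝔭'mem]
  obtain ⟨gD, hgD⟩ : ∃ gD : Fin t → D, ∀ j, gD j = ⟨rho k 𝔮 N (g j), hg j⟩ := ⟨_, fun _ => rfl⟩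
  obtain ⟨ψ', hψ'def⟩ : ∃ ψ' : MvPolynomial (Fin t) k →ₐ[k] D, ψ' = aeval gD := ⟨_, rfl⟩
  have hψ' : ∀ f, (ψ' f : Lb 𝔮 N) = rho k 𝔮 N (φ' f) := by
    intro f
    have : (D.val).comp ψ' = (rho k 𝔮 N).comp φ' := by
      apply MvPolynomial.algHom_ext
      intro j
      rw [AlgHom.comp_apply, AlgHom.comp_apply, hψ'def, hφ', aeval_X, aeval_X, hgD]
      rfl
    exact DFunLike.congr_fun this f
  have hres' : ∀ f, residue D (ψ' f) = aeval (fun j => residue D (gD j)) f := by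
    intro f
    have : (IsScalarTower.toAlgHom k D (ResidueField D)).comp ψ' =
        aeval (fun j => residue D (gD j)) := by
      apply MvPolynomial.algHom_ext
      intro j
      rw [AlgHom.comp_apply, hψ'def, aeval_X, aeval_X]
      rfl
    exact DFunLike.congr_fun this f
  have h𝔭'res : ∀ f, f ∈ 𝔭' ↔ aeval (fun j => residue D (gD j)) f = 0 := by
    intro f
    rw [← hres', residue_eq_zero_iff, hmaxD, hψ', rho_mem_maximalIdeal, h𝔭'mem]
  have hli' : LinearIndependent (ResidueField D)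
      (fun j => KaehlerDifferential.D k (ResidueField D) (residue D (gD j))) := by
    have : (fun j => KaehlerDifferential.D k (ResidueField D) (residue D (gD j))) =
        (fun j => KaehlerDifferential.D k (ResidueField D)
          (residue D ⟨rho k 𝔮 N (g j), hg j⟩)) := by
      funext j; rw [hgD]
    rw [this]; exact hli
  have H2 : ∀ f ∈ 𝔭', ∀ j, pderiv j f ∈ 𝔭' := by
    intro f hf j
    rw [h𝔭'res] at hf ⊢
    exact aeval_pderiv_eq_zero _ hli' f hf j
  obtain ⟨d₀, x, hx, hxspan, hxind⟩ := propB_aux hfs φ'L 𝔭' h𝔭'L H2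
  -- the cotangent space of `Λ_𝔮`
  have hxL : ∀ i, algebraMap Λ (Localization.AtPrime 𝔮) (φ' (x i)) ∈
      maximalIdeal (Localization.AtPrime 𝔮) := fun i => by
    rw [← hφ'Lapp]; exact (h𝔭'L _).mp (hx i)
  have hvli : LinearIndependent (ResidueField (Localization.AtPrime 𝔮))
      (fun i => (maximalIdeal (Localization.AtPrime 𝔮)).toCotangent ⟨_, hxL i⟩) := by
    refine linearIndependent_cot _ hxL (fun c hc => ?_)
    apply hxind c
    simp only [hφ'Lapp]
    exact hc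
  have hgenL : ∀ j, algebraMap Λ (Localization.AtPrime 𝔮) (gen j) ∈
      maximalIdeal (Localization.AtPrime 𝔮) := fun j =>
    (IsLocalization.AtPrime.to_map_mem_maximal_iff (Localization.AtPrime 𝔮) 𝔮 _).mpr (hgen𝔮 j)
  have hwspan : Submodule.span (ResidueField (Localization.AtPrime 𝔮))
      (Set.range fun j => (maximalIdeal (Localization.AtPrime 𝔮)).toCotangent ⟨_, hgenL j⟩) = ⊤ := by
    rw [span_cot_eq_top_iff _ hgenL, ← Localization.AtPrime.map_eq_maximalIdeal]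
    have h1 : 𝔮.map (algebraMap Λ (Localization.AtPrime 𝔮)) =
        (Ideal.span (Set.range gen)).map (algebraMap Λ (Localization.AtPrime 𝔮)) := by rw [hgen']
    rw [h1, Ideal.map_span, ← Set.range_comp]
    rfl
  obtain ⟨c, hcfin, a, huli, huspan⟩ := exists_completion' _ hvli _ hwspan
  haveI := hcfin
  -- the second group of variables
  obtain ⟨ℓ, hℓ⟩ : ∃ ℓ : c → Λ, ∀ y, ℓ y = gen (a y) := ⟨_, fun _ => rfl⟩
  have hℓ𝔮 : ∀ y, ℓ y ∈ 𝔮 := fun y => by rw [hℓ]; exact hgen𝔮 _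
  obtain ⟨φP, hφP⟩ : ∃ φP : MvPolynomial (Fin t ⊕ c) k →ₐ[k] Λ, φP = aeval (Sum.elim g ℓ) :=
    ⟨_, rfl⟩
  have hφPinc : ∀ f, φP (inc f) = φ' f := by
    intro f
    have : φP.comp (inc (c := c)) = φ' := by
      apply MvPolynomial.algHom_ext
      intro j
      rw [AlgHom.comp_apply, hφP, hφ', inc, rename_X, aeval_X, aeval_X]
      rfl
    exact DFunLike.congr_fun this f
  have hφPX : ∀ y : c, φP (X (Sum.inr y)) = ℓ y := fun y => by
    rw [hφP, aeval_X]; rfl
  have hφPXl : ∀ j : Fin t, φP (X (Sum.inl j)) = g j := fun j => by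
    rw [hφP, aeval_X]; rfl
  refine ⟨Fin t ⊕ c, inferInstance, φP, ?_⟩
  obtain ⟨𝔭, h𝔭def⟩ : ∃ 𝔭 : Ideal (MvPolynomial (Fin t ⊕ c) k), 𝔭 = 𝔮.comap φP := ⟨_, rfl⟩
  haveI h𝔭prime : 𝔭.IsPrime := h𝔭def ▸ Ideal.comap_isPrime φP 𝔮
  have h𝔭mem : ∀ f, f ∈ 𝔭 ↔ φP f ∈ 𝔮 := fun f => by rw [h𝔭def]; rfl
  have h𝔭ret : ∀ f, f ∈ 𝔭 ↔ ret f ∈ 𝔭' := by
    intro f
    have h1 : φP (f - inc (ret f)) ∈ 𝔮 := by
      have hle : Ideal.span (Set.range fun y : c =>
          (X (Sum.inr y) : MvPolynomial (Fin t ⊕ c) k)) ≤ 𝔮.comap φP := by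
        rw [Ideal.span_le]
        rintro _ ⟨y, rfl⟩
        show φP _ ∈ 𝔮
        rw [hφPX]; exact hℓ𝔮 y
      exact hle (sub_inc_ret_mem f)
    rw [map_sub, hφPinc] at h1
    rw [h𝔭mem, h𝔭'mem]
    constructor
    · intro h
      have := 𝔮.sub_mem h h1
      simpa using this
    · intro h
      have := 𝔮.add_mem h1 h
      simpa using this
  -- the generators
  obtain ⟨πt, hπt⟩ : ∃ πt : Fin d₀ ⊕ c → MvPolynomial (Fin t ⊕ c) k,
      πt = Sum.elim (fun i => inc (x i)) (fun y => X (Sum.inr y)) := ⟨_, rfl⟩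
  have hπtl : ∀ i, πt (Sum.inl i) = inc (x i) := fun i => by rw [hπt]; rfl
  have hπtr : ∀ y, πt (Sum.inr y) = X (Sum.inr y) := fun y => by rw [hπt]; rfl
  have hπtspan : Ideal.span (Set.range fun τ => algebraMap _ (Localization.AtPrime 𝔭) (πt τ)) =
      maximalIdeal (Localization.AtPrime 𝔭) := by
    rw [← span_eq_maximalIdeal_of_ret h𝔭ret x hxspan]
    congr 2
    funext τ
    rcases τ with i | y
    · rw [hπtl]; rfl
    · rw [hπtr]; rfl
  have hφPπl : ∀ i, φP (πt (Sum.inl i)) = φ' (x i) := fun i => by rw [hπtl, hφPinc]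
  have hφPπr : ∀ y, φP (πt (Sum.inr y)) = ℓ y := fun y => by rw [hπtr, hφPX]
  have hπt𝔮 : ∀ τ, φP (πt τ) ∈ 𝔮 := by
    rintro (i | y)
    · rw [hφPπl, ← h𝔭'mem]; exact hx i
    · rw [hφPπr]; exact hℓ𝔮 y
  have huL : ∀ τ, algebraMap Λ (Localization.AtPrime 𝔮) (φP (πt τ)) ∈
      maximalIdeal (Localization.AtPrime 𝔮) := fun τ =>
    (IsLocalization.AtPrime.to_map_mem_maximal_iff (Localization.AtPrime 𝔮) 𝔮 _).mpr (hπt𝔮 τ)
  have hcot : (fun τ => (maximalIdeal (Localization.AtPrime 𝔮)).toCotangent ⟨_, huL τ⟩) =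
      Sum.elim (fun i => (maximalIdeal (Localization.AtPrime 𝔮)).toCotangent ⟨_, hxL i⟩)
        ((fun j => (maximalIdeal (Localization.AtPrime 𝔮)).toCotangent ⟨_, hgenL j⟩) ∘ a) := by
    funext τ
    rcases τ with i | y
    · show (maximalIdeal (Localization.AtPrime 𝔮)).toCotangent _ =
        (maximalIdeal (Localization.AtPrime 𝔮)).toCotangent _
      congr 1
      apply Subtype.ext
      show algebraMap Λ (Localization.AtPrime 𝔮) _ = algebraMap Λ (Localization.AtPrime 𝔮) _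
      rw [hφPπl]
    · show (maximalIdeal (Localization.AtPrime 𝔮)).toCotangent _ =
        (maximalIdeal (Localization.AtPrime 𝔮)).toCotangent _
      congr 1
      apply Subtype.ext
      show algebraMap Λ (Localization.AtPrime 𝔮) _ = algebraMap Λ (Localization.AtPrime 𝔮) _
      rw [hφPπr, hℓ]
  have huli' : LinearIndependent (ResidueField (Localization.AtPrime 𝔮))
      (fun τ => (maximalIdeal (Localization.AtPrime 𝔮)).toCotangent ⟨_, huL τ⟩) := by
    rw [hcot]; exact huli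
  have huspan' : Submodule.span (ResidueField (Localization.AtPrime 𝔮))
      (Set.range fun τ => (maximalIdeal (Localization.AtPrime 𝔮)).toCotangent ⟨_, huL τ⟩) = ⊤ := by
    rw [hcot]; exact huspan
  have hLspan : Ideal.span (Set.range fun τ => algebraMap Λ (Localization.AtPrime 𝔮) (φP (πt τ))) =
      maximalIdeal (Localization.AtPrime 𝔮) := (span_cot_eq_top_iff _ huL).mp huspan'
  have hcard : Fintype.card (Fin d₀ ⊕ c) = d := by
    have h1 : (Module.finrank (ResidueField (Localization.AtPrime 𝔮))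
        (CotangentSpace (Localization.AtPrime 𝔮)) : WithBot ℕ∞) = d := by
      rw [(IsRegularLocalRing.iff_finrank_cotangentSpace (Localization.AtPrime 𝔮)).mp inferInstance,
        hd]
    have h2 : Module.finrank (ResidueField (Localization.AtPrime 𝔮))
        (CotangentSpace (Localization.AtPrime 𝔮)) = d := by exact_mod_cast h1
    rw [← h2, Module.finrank_eq_card_basis (Module.Basis.mk huli' huspan'.ge)]
  -- the local homomorphism `P_𝔭 → Λ_𝔮`
  haveI hregP : IsRegularLocalRing (Localization.AtPrime 𝔭) :=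
    isRegularLocalRing_localization_mvPolynomial' k (Fin t ⊕ c) 𝔭
  have hunit : ∀ y : 𝔭.primeCompl, IsUnit ((algebraMap Λ (Localization.AtPrime 𝔮)).comp
      (φP : MvPolynomial (Fin t ⊕ c) k →+* Λ) y) := by
    intro y
    exact IsLocalization.map_units (Localization.AtPrime 𝔮)
      (⟨φP y, fun h => y.2 ((h𝔭mem _).mpr h)⟩ : 𝔮.primeCompl)
  obtain ⟨f₀, hf₀⟩ : ∃ f₀ : Localization.AtPrime 𝔭 →+* Localization.AtPrime 𝔮,
      ∀ f, f₀ (algebraMap _ (Localization.AtPrime 𝔭) f) =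
        algebraMap Λ (Localization.AtPrime 𝔮) (φP f) :=
    ⟨IsLocalization.lift hunit, fun f => IsLocalization.lift_eq hunit f⟩
  have hmaxP : maximalIdeal (Localization.AtPrime 𝔭) =
      Ideal.span (algebraMap (MvPolynomial (Fin t ⊕ c) k) (Localization.AtPrime 𝔭) '' (𝔭 : Set _)) :=
    (Localization.AtPrime.map_eq_maximalIdeal (I := 𝔭)).symm.trans rfl
  have hf₀max : ∀ a ∈ maximalIdeal (Localization.AtPrime 𝔭),
      f₀ a ∈ maximalIdeal (Localization.AtPrime 𝔮) := by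
    intro a ha
    have : maximalIdeal (Localization.AtPrime 𝔭) ≤
        (maximalIdeal (Localization.AtPrime 𝔮)).comap f₀ := by
      rw [hmaxP, Ideal.span_le]
      rintro _ ⟨f, hf, rfl⟩
      show f₀ _ ∈ maximalIdeal (Localization.AtPrime 𝔮)
      rw [hf₀, IsLocalization.AtPrime.to_map_mem_maximal_iff (Localization.AtPrime 𝔮) 𝔮]
      exact (h𝔭mem f).mp hf
    exact this ha
  have hf₀loc : ∀ a, f₀ a ∈ maximalIdeal (Localization.AtPrime 𝔮) →
      a ∈ maximalIdeal (Localization.AtPrime 𝔭) := by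
    intro a ha
    by_contra hna
    have hu : IsUnit a := by
      by_contra h
      exact hna ((mem_maximalIdeal _).mpr h)
    exact ha (hu.map f₀)
  have hzP : ∀ τ, algebraMap _ (Localization.AtPrime 𝔭) (πt τ) ∈
      maximalIdeal (Localization.AtPrime 𝔭) := fun τ =>
    (IsLocalization.AtPrime.to_map_mem_maximal_iff (Localization.AtPrime 𝔭) 𝔭 _).mpr
      ((h𝔭mem _).mpr (hπt𝔮 τ))
  have hPli : LinearIndependent (ResidueField (Localization.AtPrime 𝔭))
      (fun τ => (maximalIdeal (Localization.AtPrime 𝔭)).toCotangent ⟨_, hzP τ⟩) := by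
    refine linearIndependent_cot _ hzP (fun c' hc' τ => ?_)
    apply hf₀loc
    have h1 : f₀ (∑ τ, c' τ * algebraMap _ (Localization.AtPrime 𝔭) (πt τ)) ∈
        maximalIdeal (Localization.AtPrime 𝔮) ^ 2 := by
      have h2 : (maximalIdeal (Localization.AtPrime 𝔭) ^ 2).map f₀ ≤
          maximalIdeal (Localization.AtPrime 𝔮) ^ 2 := by
        rw [Ideal.map_pow]
        refine Ideal.pow_right_mono ?_ 2
        rw [Ideal.map_le_iff_le_comap]
        exact fun a ha => hf₀max a ha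
      exact h2 (Ideal.mem_map_of_mem f₀ hc')
    rw [map_sum] at h1
    simp only [map_mul, hf₀] at h1
    exact mem_of_linearIndependent_cot _ huL huli' (fun τ => f₀ (c' τ)) h1 τ
  have hPspan : Submodule.span (ResidueField (Localization.AtPrime 𝔭))
      (Set.range fun τ => (maximalIdeal (Localization.AtPrime 𝔭)).toCotangent ⟨_, hzP τ⟩) = ⊤ :=
    (span_cot_eq_top_iff _ hzP).mpr hπtspan
  have hdimP : ringKrullDim (Localization.AtPrime 𝔭) = d := by
    rw [← (IsRegularLocalRing.iff_finrank_cotangentSpace (Localization.AtPrime 𝔭)).mp hregP,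
      Module.finrank_eq_card_basis (Module.Basis.mk hPli hPspan.ge), hcard]
  -- flatness
  letI algPL : Algebra (Localization.AtPrime 𝔭) (Localization.AtPrime 𝔮) := f₀.toAlgebra
  have halgPL : ∀ a, algebraMap (Localization.AtPrime 𝔭) (Localization.AtPrime 𝔮) a = f₀ a :=
    fun _ => rfl
  haveI : IsLocalHom (algebraMap (Localization.AtPrime 𝔭) (Localization.AtPrime 𝔮)) := by
    refine ⟨fun a ha => ?_⟩
    by_contra hnu
    exact hf₀max a ((mem_maximalIdeal _).mpr hnu) ha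
  have hmapmax : (maximalIdeal (Localization.AtPrime 𝔭)).map
      (algebraMap (Localization.AtPrime 𝔭) (Localization.AtPrime 𝔮)) =
      maximalIdeal (Localization.AtPrime 𝔮) := by
    rw [← hπtspan, Ideal.map_span, ← Set.range_comp, ← hLspan]
    congr 2
    funext τ
    show f₀ _ = _
    rw [hf₀]
  haveI hflatPL : Module.Flat (Localization.AtPrime 𝔭) (Localization.AtPrime 𝔮) := by
    refine (Groth.Agent.H5.FSm.flat_of_regular_of_dim (R := Localization.AtPrime 𝔭)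
      (S := Localization.AtPrime 𝔮) (r := 0) Fin.elim0 ?_ ?_).1
    · rw [hmapmax]
      have : Set.range (Fin.elim0 : Fin 0 → Localization.AtPrime 𝔮) = ∅ := Set.range_eq_empty _
      rw [this, Ideal.span_empty, sup_bot_eq]
    · rw [hdimP, hd]
      simp
  -- the map `S̄ → D`
  haveI hlocS : IsLocalRing (Lb 𝔭 N) := isLocalRing_quot_pow N hN
  have hℓmem : ∀ y, rho k 𝔮 N (ℓ y) ∈ D := fun y => by rw [hℓ]; exact hgenD _
  obtain ⟨ℓD, hℓD⟩ : ∃ ℓD : c → D, ∀ y, ℓD y = ⟨rho k 𝔮 N (ℓ y), hℓmem y⟩ := ⟨_, fun _ => rfl⟩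
  obtain ⟨ψP, hψPdef⟩ : ∃ ψP : MvPolynomial (Fin t ⊕ c) k →ₐ[k] D,
      ψP = aeval (Sum.elim gD ℓD) := ⟨_, rfl⟩
  have hψP : ∀ f, (ψP f : Lb 𝔮 N) = rho k 𝔮 N (φP f) := by
    intro f
    have : (D.val).comp ψP = (rho k 𝔮 N).comp φP := by
      apply MvPolynomial.algHom_ext
      rintro (j | y)
      · rw [AlgHom.comp_apply, AlgHom.comp_apply, hψPdef, hφP, aeval_X, aeval_X, Sum.elim_inl,
          Sum.elim_inl, hgD]
        rfl
      · rw [AlgHom.comp_apply, AlgHom.comp_apply, hψPdef, hφP, aeval_X, aeval_X, Sum.elim_inr,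
          Sum.elim_inr, hℓD]
        rfl
    exact DFunLike.congr_fun this f
  have hPD : ∀ f, rho k 𝔮 N (φP f) ∈ D := fun f => by rw [← hψP]; exact (ψP f).2
  have hψPmax : ∀ f, ψP f ∈ maximalIdeal D ↔ f ∈ 𝔭 := by
    intro f
    rw [hmaxD, hψP, rho_mem_maximalIdeal, h𝔭mem]
  have hunitD : ∀ y : 𝔭.primeCompl, IsUnit ((ψP : MvPolynomial (Fin t ⊕ c) k →+* D) y) := by
    intro y
    by_contra h
    exact y.2 ((hψPmax _).mp ((mem_maximalIdeal _).mpr h))
  obtain ⟨ψ₀, hψ₀⟩ : ∃ ψ₀ : Localization.AtPrime 𝔭 →+* D,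
      ∀ f, ψ₀ (algebraMap _ (Localization.AtPrime 𝔭) f) = ψP f :=
    ⟨IsLocalization.lift hunitD, fun f => IsLocalization.lift_eq hunitD f⟩
  have hψ₀max : ∀ a ∈ maximalIdeal (Localization.AtPrime 𝔭), ψ₀ a ∈ maximalIdeal D := by
    intro a ha
    have : maximalIdeal (Localization.AtPrime 𝔭) ≤ (maximalIdeal D).comap ψ₀ := by
      rw [hmaxP, Ideal.span_le]
      rintro _ ⟨f, hf, rfl⟩
      show ψ₀ _ ∈ maximalIdeal D
      rw [hψ₀, hψPmax]; exact hf
    exact this ha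
  have hDnil : maximalIdeal D ^ N = ⊥ := by
    rw [eq_bot_iff]
    intro a ha
    have h1 : (maximalIdeal D).map (algebraMap D (Lb 𝔮 N)) ≤ maximalIdeal (Lb 𝔮 N) := by
      rw [Ideal.map_le_iff_le_comap]
      intro b hb
      exact (hmaxD b).mp hb
    have h2 : algebraMap D (Lb 𝔮 N) a ∈ maximalIdeal (Lb 𝔮 N) ^ N := by
      have := Ideal.mem_map_of_mem (algebraMap D (Lb 𝔮 N)) ha
      rw [Ideal.map_pow] at this
      exact Ideal.pow_right_mono h1 N this
    rw [maximalIdeal_quot_pow_pow] at h2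
    rw [Ideal.mem_bot]
    apply Subtype.ext
    exact h2
  have hψ₀pow : ∀ a ∈ maximalIdeal (Localization.AtPrime 𝔭) ^ N, ψ₀ a = 0 := by
    intro a ha
    have h1 : (maximalIdeal (Localization.AtPrime 𝔭) ^ N).map ψ₀ ≤ maximalIdeal D ^ N := by
      rw [Ideal.map_pow]
      refine Ideal.pow_right_mono ?_ N
      rw [Ideal.map_le_iff_le_comap]
      exact fun b hb => hψ₀max b hb
    have := h1 (Ideal.mem_map_of_mem ψ₀ ha)
    rw [hDnil] at this
    exact this
  obtain ⟨ψ, hψ⟩ : ∃ ψ : Lb 𝔭 N →+* D, ∀ a, ψ (Ideal.Quotient.mk _ a) = ψ₀ a :=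
    ⟨Ideal.Quotient.lift _ ψ₀ hψ₀pow, fun a => Ideal.Quotient.lift_mk _ _ _⟩
  letI algSD : Algebra (Lb 𝔭 N) D := ψ.toAlgebra
  have halgSD : ∀ s, algebraMap (Lb 𝔭 N) D s = ψ s := fun _ => rfl
  have hψrho : ∀ f, algebraMap (Lb 𝔭 N) D (rho k 𝔭 N f) = ⟨rho k 𝔮 N (φP f), hPD f⟩ := by
    intro f
    apply Subtype.ext
    rw [halgSD, rho_apply, hψ, hψ₀, hψP]
  haveI towerkSD : IsScalarTower k (Lb 𝔭 N) D := by
    refine IsScalarTower.of_algebraMap_eq (R := k) (S := Lb 𝔭 N) (A := D) fun c' => ?_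
    have h1 : algebraMap k (Lb 𝔭 N) c' =
        rho k 𝔭 N (algebraMap k (MvPolynomial (Fin t ⊕ c) k) c') :=
      ((rho k 𝔭 N).commutes c').symm
    rw [h1, hψrho]
    apply Subtype.ext
    show algebraMap k (Lb 𝔮 N) c' =
      rho k 𝔮 N (φP (algebraMap k (MvPolynomial (Fin t ⊕ c) k) c'))
    rw [AlgHom.commutes, AlgHom.commutes]
  letI algSΛ : Algebra (Lb 𝔭 N) (Lb 𝔮 N) :=
    ((algebraMap D (Lb 𝔮 N)).comp (algebraMap (Lb 𝔭 N) D)).toAlgebra
  haveI : IsScalarTower (Lb 𝔭 N) D (Lb 𝔮 N) := IsScalarTower.of_algebraMap_eq fun _ => rfl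
  have hringeq : (algebraMap (Lb 𝔭 N) (Lb 𝔮 N)).comp
      (Ideal.Quotient.mk (maximalIdeal (Localization.AtPrime 𝔭) ^ N)) =
      (Ideal.Quotient.mk (maximalIdeal (Localization.AtPrime 𝔮) ^ N)).comp f₀ := by
    apply IsLocalization.ringHom_ext 𝔭.primeCompl
    refine RingHom.ext fun f => ?_
    show ((ψ (Ideal.Quotient.mk _ (algebraMap _ (Localization.AtPrime 𝔭) f)) : D) : Lb 𝔮 N) =
      Ideal.Quotient.mk _ (f₀ (algebraMap _ (Localization.AtPrime 𝔭) f))
    rw [hψ, hψ₀, hψP, hf₀]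
    rfl
  have halgSΛ : ∀ a : Localization.AtPrime 𝔭, algebraMap (Lb 𝔭 N) (Lb 𝔮 N)
      (Ideal.Quotient.mk _ a) = Ideal.Quotient.mk _ (f₀ a) := fun a =>
    RingHom.congr_fun hringeq a
  haveI hflatSΛ : Module.Flat (Lb 𝔭 N) (Lb 𝔮 N) := by
    have hKmap : (maximalIdeal (Localization.AtPrime 𝔭) ^ N).map
        (algebraMap (Localization.AtPrime 𝔭) (Localization.AtPrime 𝔮)) =
        maximalIdeal (Localization.AtPrime 𝔮) ^ N := by
      rw [Ideal.map_pow, hmapmax]
    haveI h1 : Module.Flat (Lb 𝔭 N) (Localization.AtPrime 𝔮 ⧸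
        (maximalIdeal (Localization.AtPrime 𝔭) ^ N).map
          (algebraMap (Localization.AtPrime 𝔭) (Localization.AtPrime 𝔮))) :=
      Groth.Agent.H8.SmLift.flat_quotient _
    let e' : Lb 𝔮 N ≃ₗ[Lb 𝔭 N] (Localization.AtPrime 𝔮 ⧸
        (maximalIdeal (Localization.AtPrime 𝔭) ^ N).map
          (algebraMap (Localization.AtPrime 𝔭) (Localization.AtPrime 𝔮))) :=
      { (Ideal.quotEquivOfEq hKmap).symm.toAddEquiv with
        map_smul' := by
          intro s y
          obtain ⟨a, rfl⟩ := Ideal.Quotient.mk_surjective s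
          obtain ⟨l, rfl⟩ := Ideal.Quotient.mk_surjective y
          show (Ideal.quotEquivOfEq hKmap).symm (Ideal.Quotient.mk _ a • Ideal.Quotient.mk _ l) =
            Ideal.Quotient.mk _ a • (Ideal.quotEquivOfEq hKmap).symm (Ideal.Quotient.mk _ l)
          rw [Algebra.smul_def, halgSΛ, ← map_mul, Algebra.smul_def]
          rfl }
    exact Module.Flat.of_linearEquiv e'
  have hmaxS : (maximalIdeal (Lb 𝔭 N)).map (algebraMap (Lb 𝔭 N) (Lb 𝔮 N)) =
      maximalIdeal (Lb 𝔮 N) := by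
    have e1 : maximalIdeal (Lb 𝔭 N) = (maximalIdeal (Localization.AtPrime 𝔭)).map
        (Ideal.Quotient.mk _) := maximalIdeal_quot_pow N
    have e2 : maximalIdeal (Lb 𝔮 N) = (maximalIdeal (Localization.AtPrime 𝔮)).map
        (Ideal.Quotient.mk _) := maximalIdeal_quot_pow N
    calc (maximalIdeal (Lb 𝔭 N)).map (algebraMap (Lb 𝔭 N) (Lb 𝔮 N))
        = ((maximalIdeal (Localization.AtPrime 𝔭)).map (Ideal.Quotient.mk _)).map
            (algebraMap (Lb 𝔭 N) (Lb 𝔮 N)) := by rw [e1]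
      _ = (maximalIdeal (Localization.AtPrime 𝔭)).map ((algebraMap (Lb 𝔭 N) (Lb 𝔮 N)).comp
            (Ideal.Quotient.mk (maximalIdeal (Localization.AtPrime 𝔭) ^ N))) := Ideal.map_map _ _
      _ = (maximalIdeal (Localization.AtPrime 𝔭)).map
            ((Ideal.Quotient.mk (maximalIdeal (Localization.AtPrime 𝔮) ^ N)).comp f₀) := by
          rw [hringeq]
      _ = ((maximalIdeal (Localization.AtPrime 𝔭)).map f₀).map
            (Ideal.Quotient.mk (maximalIdeal (Localization.AtPrime 𝔮) ^ N)) :=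
          (Ideal.map_map _ _).symm
      _ = (maximalIdeal (Localization.AtPrime 𝔮)).map
            (Ideal.Quotient.mk (maximalIdeal (Localization.AtPrime 𝔮) ^ N)) := by
          rw [show (maximalIdeal (Localization.AtPrime 𝔭)).map f₀ =
            maximalIdeal (Localization.AtPrime 𝔮) from hmapmax]
      _ = maximalIdeal (Lb 𝔮 N) := e2.symm
  haveI : IsLocalHom (algebraMap D (Lb 𝔮 N)) := by
    refine ⟨fun a ha => ?_⟩
    by_contra hnu
    exact (hmaxD a).mp ((mem_maximalIdeal _).mpr hnu) ha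
  have hT : Submodule.span (ResidueField D) ((fun s => KaehlerDifferential.D k (ResidueField D)
      (residue D (algebraMap (Lb 𝔭 N) D s))) ''
        (Set.range fun j : Fin t => rho k 𝔭 N (X (Sum.inl j)))) = ⊤ := by
    rw [← Set.range_comp]
    have : ((fun s => KaehlerDifferential.D k (ResidueField D)
        (residue D (algebraMap (Lb 𝔭 N) D s))) ∘ fun j : Fin t => rho k 𝔭 N (X (Sum.inl j))) =
        fun j => KaehlerDifferential.D k (ResidueField D)
          (residue D ⟨rho k 𝔮 N (g j), hg j⟩) := by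
      funext j
      show KaehlerDifferential.D k (ResidueField D)
        (residue D (algebraMap (Lb 𝔭 N) D (rho k 𝔭 N (X (Sum.inl j))))) = _
      rw [hψrho]
      have h1 : (⟨rho k 𝔮 N (φP (X (Sum.inl j))), hPD _⟩ : D) = ⟨rho k 𝔮 N (g j), hg j⟩ :=
        Subtype.ext (show rho k 𝔮 N (φP (X (Sum.inl j))) = rho k 𝔮 N (g j) by rw [hφPXl])
      rw [h1]
    rw [this]
    exact hspan
  have hind : Smoothing.IndSmooth (Lb 𝔭 N) D :=
    indSmooth_of_artinian (k := k) (Λb := Lb 𝔮 N) ⟨N, maximalIdeal_quot_pow_pow N⟩ hmaxS _ hT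
  -- conclusion
  let eqv : Fin d ≃ Fin d₀ ⊕ c := (Fintype.equivFinOfCardEq hcard).symm
  subst h𝔭def
  refine ⟨πt ∘ eqv, D, hloc, fun i => hπt𝔮 _, ?_, ?_, hdimP, hflat, hmaxD, hED, hPD, algSD, hψrho,
    hind⟩
  · rw [← hπtspan]
    congr 1
    exact eqv.surjective.range_comp (fun τ => algebraMap _ (Localization.AtPrime (𝔮.comap φP)) (πt τ))
  · rw [← hLspan]
    congr 1
    exact eqv.surjective.range_comp
      (fun τ => algebraMap Λ (Localization.AtPrime 𝔮) (φP (πt τ)))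

end Groth.Agent.H5.Ins
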