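import Mathlib
import Groth.Agent.Lib.Helper8.Par09.A

/-! Lifting the relations `π_i^n = Σ μ_ij a_j` from the Artinian quotient to `Λ`. -/

set_option autoImplicit false
universe u

namespace Groth.Agent.H5.Ins

open IsLocalRing Groth.Agent.H8.Par09

/-- elements of `I * (v_1, …, v_s)` are combinations of the `v_j` with coefficients in `I`. -/
theorem exists_coeff_of_mem_mul_span {R : Type*} [CommRing R] (I : Ideal R) {s : ℕ}
    (v : Fin s → R) (x : R) (hx : x ∈ I * Ideal.span (Set.range v)) :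
    ∃ ε : Fin s → R, (∀ j, ε j ∈ I) ∧ x = ∑ j, ε j * v j := by
  refine Submodule.mul_induction_on hx (fun a ha b hb => ?_) (fun x y hx hy => ?_)
  · obtain ⟨c, rfl⟩ := Ideal.mem_span_range_iff_exists_fun.mp hb
    refine ⟨fun j => a * c j, fun j => Ideal.mul_mem_right _ _ ha, ?_⟩
    rw [Finset.mul_sum]
    exact Finset.sum_congr rfl fun j _ => by ring
  · obtain ⟨ε₁, h₁, rfl⟩ := hx
    obtain ⟨ε₂, h₂, rfl⟩ := hy
    refine ⟨fun j => ε₁ j + ε₂ j, fun j => Ideal.add_mem _ (h₁ j) (h₂ j), ?_⟩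
    rw [← Finset.sum_add_distrib]
    exact Finset.sum_congr rfl fun j _ => by ring

set_option maxHeartbeats 1000000 in
theorem exists_lift_data {Λ : Type u} [CommRing Λ] [IsNoetherianRing Λ] (𝔮 : Ideal Λ) [𝔮.IsPrime]
    [IsRegularLocalRing (Localization.AtPrime 𝔮)] {d : ℕ}
    (hd : ringKrullDim (Localization.AtPrime 𝔮) = d) {s : ℕ} (h : Fin s → Λ) (n N' : ℕ)
    (hn : 0 < n)
    (hpow : maximalIdeal (Localization.AtPrime 𝔮) ^ n ≤
      Ideal.span (Set.range fun j => algebraMap Λ (Localization.AtPrime 𝔮) (h j)))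
    (ϖ₀ : Fin d → Λ)
    (hϖ₀ : Ideal.span (Set.range fun i => algebraMap Λ (Localization.AtPrime 𝔮) (ϖ₀ i)) =
      maximalIdeal (Localization.AtPrime 𝔮))
    (m₀ : Fin d → Fin s → Localization.AtPrime 𝔮)
    (hm₀ : ∀ i, algebraMap Λ (Localization.AtPrime 𝔮) (ϖ₀ i) ^ n -
      ∑ j, m₀ i j * algebraMap Λ (Localization.AtPrime 𝔮) (h j) ∈
        maximalIdeal (Localization.AtPrime 𝔮) ^ (N' + n))
    (e : ℕ) (he : 0 < e) :
    ∃ (δ : Fin d → Λ) (lam : Fin d → Fin s → Λ), (∀ i, δ i ∉ 𝔮) ∧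
      (∀ i, (δ i * ϖ₀ i) ^ n = ∑ j, lam i j * h j) ∧
      (∀ i j, algebraMap Λ (Localization.AtPrime 𝔮) (lam i j) -
        algebraMap Λ (Localization.AtPrime 𝔮) (δ i) ^ n * m₀ i j ∈
          maximalIdeal (Localization.AtPrime 𝔮) ^ N') ∧
      ∀ i x, (δ i * ϖ₀ i) ^ 2 * x ∈ KK e (fun i => δ i * ϖ₀ i) i →
        (δ i * ϖ₀ i) * x ∈ KK e (fun i => δ i * ϖ₀ i) i := by
  classical
  -- step 1: exact relations in `L`
  have h1 : ∀ i, ∃ ε : Fin s → Localization.AtPrime 𝔮,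
      (∀ j, ε j ∈ maximalIdeal (Localization.AtPrime 𝔮) ^ N') ∧
      algebraMap Λ (Localization.AtPrime 𝔮) (ϖ₀ i) ^ n =
        ∑ j, (m₀ i j + ε j) * algebraMap Λ (Localization.AtPrime 𝔮) (h j) := by
    intro i
    have h2 : maximalIdeal (Localization.AtPrime 𝔮) ^ (N' + n) ≤
        maximalIdeal (Localization.AtPrime 𝔮) ^ N' *
          Ideal.span (Set.range fun j => algebraMap Λ (Localization.AtPrime 𝔮) (h j)) := by
      rw [pow_add]
      exact Ideal.mul_mono_right hpow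
    obtain ⟨ε, hε, hsum⟩ := exists_coeff_of_mem_mul_span _ _ _ (h2 (hm₀ i))
    refine ⟨ε, hε, ?_⟩
    rw [sub_eq_iff_eq_add] at hsum
    rw [hsum, ← Finset.sum_add_distrib]
    exact Finset.sum_congr rfl fun j _ => by ring
  choose ε hε hrel using h1
  -- step 2: clearing denominators
  have h3 : ∀ i, ∃ b : 𝔮.primeCompl, ∀ j, ∃ l : Λ,
      algebraMap Λ (Localization.AtPrime 𝔮) l =
        algebraMap Λ (Localization.AtPrime 𝔮) b * (m₀ i j + ε i j) := by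
    intro i
    obtain ⟨b, hb⟩ := IsLocalization.exist_integer_multiples 𝔮.primeCompl Finset.univ
      (fun j => m₀ i j + ε i j)
    refine ⟨b, fun j => ?_⟩
    obtain ⟨l, hl⟩ := hb j (Finset.mem_univ j)
    refine ⟨l, ?_⟩
    rw [hl, Algebra.smul_def]
  choose b l hl using h3
  have h4 : ∀ i, ∃ c : 𝔮.primeCompl, (c : Λ) * ((b i : Λ) * ϖ₀ i ^ n - ∑ j, l i j * h j) = 0 := by
    intro i
    have h5 : algebraMap Λ (Localization.AtPrime 𝔮) ((b i : Λ) * ϖ₀ i ^ n - ∑ j, l i j * h j) = 0 := by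
      rw [map_sub, map_mul, map_pow, hrel, map_sum, Finset.mul_sum, sub_eq_zero]
      refine Finset.sum_congr rfl fun j _ => ?_
      rw [map_mul, hl]
      ring
    obtain ⟨c, hc⟩ := (IsLocalization.map_eq_zero_iff 𝔮.primeCompl (Localization.AtPrime 𝔮) _).mp h5
    exact ⟨c, hc⟩
  choose c hc using h4
  obtain ⟨δ₀, hδ₀⟩ : ∃ δ₀ : Fin d → Λ, ∀ i, δ₀ i = (c i : Λ) * (b i : Λ) := ⟨_, fun _ => rfl⟩
  have hδ₀𝔮 : ∀ i, δ₀ i ∉ 𝔮 := fun i => by
    rw [hδ₀]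
    exact (𝔮.primeCompl.mul_mem (c i).2 (b i).2 : _ ∈ 𝔮.primeCompl)
  obtain ⟨lam₀, hlam₀⟩ : ∃ lam₀ : Fin d → Fin s → Λ,
      ∀ i j, lam₀ i j = δ₀ i ^ (n - 1) * (c i : Λ) * l i j := ⟨_, fun _ _ => rfl⟩
  have hrel₀ : ∀ i, (δ₀ i * ϖ₀ i) ^ n = ∑ j, lam₀ i j * h j := by
    intro i
    have h5 : (c i : Λ) * ((b i : Λ) * ϖ₀ i ^ n) = (c i : Λ) * ∑ j, l i j * h j := by
      have := hc i
      rw [mul_sub, sub_eq_zero] at this
      exact this
    obtain ⟨n', rfl⟩ : ∃ n', n = n' + 1 := ⟨n - 1, by omega⟩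
    have h6 : (δ₀ i * ϖ₀ i) ^ (n' + 1) =
        δ₀ i ^ n' * ((c i : Λ) * ((b i : Λ) * ϖ₀ i ^ (n' + 1))) := by
      rw [hδ₀]; ring
    rw [h6, h5, Finset.mul_sum, Finset.mul_sum]
    refine Finset.sum_congr rfl fun j _ => ?_
    rw [hlam₀, Nat.add_sub_cancel]
    ring
  have hιlam₀ : ∀ i j, algebraMap Λ (Localization.AtPrime 𝔮) (lam₀ i j) =
      algebraMap Λ (Localization.AtPrime 𝔮) (δ₀ i) ^ n * (m₀ i j + ε i j) := by
    intro i j
    obtain ⟨n', rfl⟩ : ∃ n', n = n' + 1 := ⟨n - 1, by omega⟩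
    rw [hlam₀, map_mul, map_mul, map_pow, hl, Nat.add_sub_cancel, hδ₀, map_mul]
    ring
  -- step 3: the annihilator conditions
  have ha : Ideal.span (Set.range fun i => algebraMap Λ (Localization.AtPrime 𝔮) (δ₀ i * ϖ₀ i)) =
      maximalIdeal (Localization.AtPrime 𝔮) := by
    rw [← hϖ₀]
    apply span_range_eq_of_unit_mul _ _ (fun i => algebraMap Λ (Localization.AtPrime 𝔮) (δ₀ i))
    · intro i
      exact IsLocalization.map_units (Localization.AtPrime 𝔮) (⟨δ₀ i, hδ₀𝔮 i⟩ : 𝔮.primeCompl)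
    · intro i
      rw [map_mul]
  obtain ⟨ϖ, hϖu, hϖann⟩ := exists_params 𝔮 hd e he (fun i => δ₀ i * ϖ₀ i) ha d le_rfl
  choose v hv hϖv using hϖu
  have hϖeq : ϖ = fun i => (v i * δ₀ i) * ϖ₀ i := by
    funext i
    rw [hϖv]; ring
  refine ⟨fun i => v i * δ₀ i, fun i j => v i ^ n * lam₀ i j, ?_, ?_, ?_, ?_⟩
  · intro i
    exact fun hmem => (‹𝔮.IsPrime›.mem_or_mem hmem).elim (hv i) (hδ₀𝔮 i)
  · intro i
    have : (v i * δ₀ i * ϖ₀ i) ^ n = v i ^ n * (δ₀ i * ϖ₀ i) ^ n := by ring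
    rw [this, hrel₀, Finset.mul_sum]
    exact Finset.sum_congr rfl fun j _ => by ring
  · intro i j
    have : algebraMap Λ (Localization.AtPrime 𝔮) (v i ^ n * lam₀ i j) -
        algebraMap Λ (Localization.AtPrime 𝔮) (v i * δ₀ i) ^ n * m₀ i j =
        (algebraMap Λ (Localization.AtPrime 𝔮) (v i * δ₀ i)) ^ n * ε i j := by
      rw [map_mul, map_pow, hιlam₀, map_mul]
      ring
    rw [this]
    exact Ideal.mul_mem_left _ _ (hε i j)
  · intro i x hx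
    rw [← hϖeq] at hx ⊢
    have h7 : ϖ i = v i * δ₀ i * ϖ₀ i := by rw [hϖeq]
    rw [← h7] at hx ⊢
    exact hϖann i i.2 x hx

end Groth.Agent.H5.Ins
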