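import Mathlib
import Groth.Prelude.Def_Smoothing
import Groth.Agent.Lib.Helper5.Sep.B
import Groth.Agent.Lib.Helper5.Sep.G2a
import Groth.Agent.Lib.Helper5.Sep.G1
import Groth.Agent.S6829

/-! The auxiliary algebra `C`: maps out of `B`, the retraction, base change. -/

set_option autoImplicit false
universe u

namespace Groth.Agent.H5.Ins

open Groth.Agent.H5.Sep TensorProduct MvPolynomial

section BBext
variable {R A' : Type u} [CommRing R] [CommRing A'] [Algebra R A'] {d s : ℕ} (xs : Fin d → A')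
  (as : Fin s → A') (n : ℕ)

/-- maps out of `B`, with the values on the `z_ij`. -/
theorem exists_lift_BB' {T : Type*} [CommRing T] [Algebra R T] (ψ : A' →ₐ[R] T)
    (lam : Fin d × Fin s → T) (h : ∀ i, ψ (xs i) ^ n = ∑ j, lam (i, j) * ψ (as j)) :
    ∃ Ψ : BB xs as n →ₐ[R] T, (∀ a, Ψ (algebraMap A' (BB xs as n) a) = ψ a) ∧
      ∀ ij, Ψ (zB xs as n ij) = lam ij := by
  letI : Algebra A' T := ψ.toRingHom.toAlgebra
  haveI : IsScalarTower R A' T := IsScalarTower.of_algebraMap_eq fun r => (ψ.commutes r).symm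
  have hker : ∀ x ∈ Ideal.span (Set.range (relB xs as n)),
      (aeval lam : MvPolynomial (Fin d × Fin s) A' →ₐ[A'] T) x = 0 := by
    intro x hx
    have : Ideal.span (Set.range (relB xs as n)) ≤
        RingHom.ker (aeval lam : MvPolynomial (Fin d × Fin s) A' →ₐ[A'] T).toRingHom := by
      rw [Ideal.span_le]
      rintro _ ⟨i, rfl⟩
      show (aeval lam) (relB xs as n i) = 0
      unfold relB
      rw [map_sub, map_pow, map_sum, sub_eq_zero]
      simp only [map_mul, aeval_X, aeval_C]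
      exact h i
    exact this hx
  refine ⟨(Ideal.Quotient.liftₐ (Ideal.span (Set.range (relB xs as n)))
    (aeval lam : MvPolynomial (Fin d × Fin s) A' →ₐ[A'] T) hker).restrictScalars R, fun a => ?_,
    fun ij => ?_⟩
  · show (Ideal.Quotient.liftₐ (Ideal.span (Set.range (relB xs as n)))
      (aeval lam : MvPolynomial (Fin d × Fin s) A' →ₐ[A'] T) hker) (algebraMap A' _ a) = _
    rw [AlgHom.commutes]
    rfl
  · show (Ideal.Quotient.liftₐ (Ideal.span (Set.range (relB xs as n)))
      (aeval lam : MvPolynomial (Fin d × Fin s) A' →ₐ[A'] T) hker)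
        (Ideal.Quotient.mk _ (X ij)) = _
    rw [Ideal.Quotient.liftₐ_apply, Ideal.Quotient.lift_mk]
    exact aeval_X lam ij

theorem BB_ringHom_ext {T : Type*} [CommRing T] (Ψ₁ Ψ₂ : BB xs as n →+* T)
    (h1 : ∀ a, Ψ₁ (algebraMap A' (BB xs as n) a) = Ψ₂ (algebraMap A' (BB xs as n) a))
    (h2 : ∀ ij, Ψ₁ (zB xs as n ij) = Ψ₂ (zB xs as n ij)) : Ψ₁ = Ψ₂ := by
  apply Ideal.Quotient.ringHom_ext
  apply MvPolynomial.ringHom_ext
  · intro a
    exact h1 a
  · intro ij
    exact h2 ij

end BBext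

/-- the auxiliary algebra `C` with its section and retraction. -/
theorem exists_construction_aux' {R A' : Type u} [CommRing R] [IsNoetherianRing R] [CommRing A']
    [Algebra R A'] [Algebra.FinitePresentation R A'] {d s : ℕ} (xs : Fin d → A')
    (as' : Fin s → A') (n : ℕ)
    (hsm' : ∀ j, Algebra.Smooth R (Localization.Away (as' j))) :
    ∃ (Cs : Type u) (_ : CommRing Cs) (_ : Algebra R Cs) (_ : Algebra.FinitePresentation R Cs)
      (ι : BB xs as' n →ₐ[R] Cs) (ρ : Cs →ₐ[R] BB xs as' n) (c : ℕ), (∀ b, ρ (ι b) = b) ∧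
      0 < c ∧
      (∀ i : Fin d, Smoothing.IsStrictlyStandard R Cs
        (ι (algebraMap A' (BB xs as' n) (xs i)) ^ c)) ∧
      (∀ j, ι (algebraMap A' (BB xs as' n) (as' j)) ∈ Smoothing.singularIdeal R Cs) := by
  classical
  haveI fpB : Algebra.FinitePresentation R (BB xs as' n) := finitePresentation_BB (R := R) xs as' n
  have smBx : ∀ i, Algebra.Smooth R (Localization.Away (algebraMap A' (BB xs as' n) (xs i))) :=
    fun i => smooth_away_xs (R := R) xs as' n hsm' i
  have smBa : ∀ j, Algebra.Smooth R (Localization.Away (algebraMap A' (BB xs as' n) (as' j))) :=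
    fun j => by
      haveI := hsm' j
      exact smooth_away_as (R := R) xs as' n j
  obtain ⟨Cs, _, _, fpC, ι, ρ, hρι, hC⟩ := exists_sym_construction (R := R) (B := BB xs as' n)
  choose e₀ he₀ using fun i => (hC _ (smBx i)).1
  refine ⟨Cs, inferInstance, inferInstance, fpC, ι, ρ, (∑ i, e₀ i) + 1, hρι, Nat.succ_pos _, ?_, ?_⟩
  · intro i
    exact he₀ i _ (le_trans (Finset.single_le_sum (fun _ _ => Nat.zero_le _) (Finset.mem_univ i))
      (Nat.le_succ _))
  · intro j
    exact (hC _ (smBa j)).2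

section BaseChange
variable {R₀ R Cs₀ : Type u} [CommRing R₀] [CommRing R] [Algebra R₀ R] [CommRing Cs₀]
  [Algebra R₀ Cs₀] [Algebra.FinitePresentation R₀ Cs₀]

theorem isStrictlyStandard_baseChange (a : Cs₀) (h : Smoothing.IsStrictlyStandard R₀ Cs₀ a) :
    Smoothing.IsStrictlyStandard R (R ⊗[R₀] Cs₀) ((1 : R) ⊗ₜ[R₀] a) :=
  (Groth.Agent.S6829.result (R' := R) a).2 h

theorem mem_singularIdeal_baseChange (a : Cs₀) (h : a ∈ Smoothing.singularIdeal R₀ Cs₀) :
    (1 : R) ⊗ₜ[R₀] a ∈ Smoothing.singularIdeal R (R ⊗[R₀] Cs₀) := by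
  haveI : Algebra.Smooth R₀ (Localization.Away a) := smooth_away_of_mem_singularIdeal a h
  haveI : Algebra.Smooth R (Localization.Away ((1 : R) ⊗ₜ[R₀] a)) :=
    smooth_away_tmul (k := R₀) (R := R) a
  exact mem_singularIdeal_of_smooth_away _

end BaseChange

end Groth.Agent.H5.Ins
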