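import Mathlib
import Groth.Prelude.Def_Smoothing
import Groth.Agent.Lib.Helper5.Sep.A
import Groth.Agent.Lib.Helper5.Sep.B
import Groth.Agent.Lib.Helper5.Ins.G1
import Groth.Agent.Lib.Helper5.Ins.G2
import Groth.Agent.S2034

/-! Generic tools for the reduction step of the inseparable case. -/

set_option autoImplicit false
universe u

namespace Groth.Agent.H5.Ins

open Groth.Agent.H5.Sep TensorProduct MvPolynomial IsLocalRing

/-- pigeonhole for powers of a finitely generated ideal. -/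
theorem span_pow_le_span_pow {R : Type*} [CommRing R] {ι : Type*} [DecidableEq ι] (s : Finset ι)
    (hs : s.Nonempty) (a : ι → R) (E : ℕ) :
    Ideal.span (a '' (s : Set ι)) ^ (s.card * E) ≤ Ideal.span ((fun i => a i ^ E) '' (s : Set ι)) := by
  induction hs using Finset.Nonempty.cons_induction with
  | singleton i =>
    simp only [Finset.coe_singleton, Set.image_singleton, Finset.card_singleton, one_mul]
    rw [Ideal.span_singleton_pow]
  | cons i s hi hs ih =>
    rw [Finset.cons_eq_insert, Finset.card_insert_of_notMem hi, Finset.coe_insert,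
      Set.image_insert_eq, Set.image_insert_eq, Ideal.span_insert, Ideal.span_insert,
      show (s.card + 1) * E = E + s.card * E by ring]
    refine le_trans Ideal.sup_pow_add_le_pow_sup_pow ?_
    rw [Ideal.span_singleton_pow]
    exact sup_le_sup le_rfl ih

theorem span_range_pow_le {R : Type*} [CommRing R] {d : ℕ} (hd : 0 < d) (a : Fin d → R) (E : ℕ) :
    Ideal.span (Set.range a) ^ (d * E) ≤ Ideal.span (Set.range fun i => a i ^ E) := by
  classical
  have h := span_pow_le_span_pow (Finset.univ : Finset (Fin d))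
    (Finset.univ_nonempty_iff.mpr ⟨⟨0, hd⟩⟩) a E
  simpa using h

section Lb
variable {P : Type u} [CommRing P] (𝔭 : Ideal P) [𝔭.IsPrime] (N : ℕ) {T : Type*} [CommRing T]

theorem exists_Lb_lift (f : P →+* T) (hu : ∀ x, x ∉ 𝔭 → IsUnit (f x)) {d : ℕ} (hd : 0 < d)
    (π : Fin d → P)
    (hπ : Ideal.span (Set.range fun i => algebraMap P (Localization.AtPrime 𝔭) (π i)) =
      maximalIdeal (Localization.AtPrime 𝔭))
    (E : ℕ) (hE : ∀ i, f (π i) ^ E = 0) (hN : d * E ≤ N) :
    ∃ F : Lb 𝔭 N →+* T,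
      (∀ x, F (Ideal.Quotient.mk _ (algebraMap P (Localization.AtPrime 𝔭) x)) = f x) ∧
      ∀ l ∈ maximalIdeal (Localization.AtPrime 𝔭) ^ (d * E), F (Ideal.Quotient.mk _ l) = 0 := by
  let F₀ : Localization.AtPrime 𝔭 →+* T :=
    IsLocalization.lift (M := 𝔭.primeCompl) (g := f) (fun y => hu y y.2)
  have hF₀ : ∀ x, F₀ (algebraMap P (Localization.AtPrime 𝔭) x) = f x := fun x =>
    IsLocalization.lift_eq _ x
  have hker : maximalIdeal (Localization.AtPrime 𝔭) ^ (d * E) ≤ RingHom.ker F₀ := by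
    rw [← hπ]
    refine le_trans (span_range_pow_le hd _ E) ?_
    rw [Ideal.span_le]
    rintro _ ⟨i, rfl⟩
    show F₀ (algebraMap P (Localization.AtPrime 𝔭) (π i) ^ E) = 0
    rw [map_pow, hF₀, hE]
  have hker' : ∀ l ∈ maximalIdeal (Localization.AtPrime 𝔭) ^ N, F₀ l = 0 := fun l hl =>
    hker (Ideal.pow_le_pow_right hN hl)
  refine ⟨Ideal.Quotient.lift _ F₀ hker', fun x => ?_, fun l hl => ?_⟩
  · rw [Ideal.Quotient.lift_mk, hF₀]
  · rw [Ideal.Quotient.lift_mk]
    exact hker hl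

theorem Lb_ringHom_ext (F₁ F₂ : Lb 𝔭 N →+* T)
    (h : ∀ x, F₁ (Ideal.Quotient.mk _ (algebraMap P (Localization.AtPrime 𝔭) x)) =
      F₂ (Ideal.Quotient.mk _ (algebraMap P (Localization.AtPrime 𝔭) x))) : F₁ = F₂ := by
  apply Ideal.Quotient.ringHom_ext
  apply IsLocalization.ringHom_ext 𝔭.primeCompl
  exact RingHom.ext fun x => h x

/-- a map from `Λ_𝔮/𝔮^N` onto a localization of a quotient of `Λ`. -/
theorem Lb_lift_surjective {Λ' Λq : Type*} [CommRing Λ'] [CommRing Λq] (𝔮' : Ideal Λ')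
    [𝔮'.IsPrime] [Algebra Λ' Λq] [IsLocalization.AtPrime Λq 𝔮'] (g : P →+* Λ')
    (hg : Function.Surjective g) (h𝔭 : ∀ x, x ∈ 𝔭 → g x ∈ 𝔮') (F : Lb 𝔭 N →+* Λq)
    (hF : ∀ x, F (Ideal.Quotient.mk _ (algebraMap P (Localization.AtPrime 𝔭) x)) =
      algebraMap Λ' Λq (g x)) : Function.Surjective F := by
  intro y
  obtain ⟨x', s', rfl⟩ := IsLocalization.exists_mk'_eq 𝔮'.primeCompl y
  obtain ⟨x, rfl⟩ := hg x'
  obtain ⟨s, hs⟩ := hg s'.1
  have hs𝔭 : s ∉ 𝔭 := fun h => s'.2 (hs ▸ h𝔭 s h)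
  refine ⟨Ideal.Quotient.mk _ (IsLocalization.mk' (Localization.AtPrime 𝔭) x
    (⟨s, hs𝔭⟩ : 𝔭.primeCompl)), ?_⟩
  rw [IsLocalization.eq_mk'_iff_mul_eq, ← hs, ← hF s, ← map_mul, ← map_mul,
    IsLocalization.mk'_spec, hF]

theorem ringKrullDim_eq_zero_of_Lb_lift [IsNoetherianRing P] (hN : 0 < N)
    {Λ' Λq : Type*} [CommRing Λ'] [CommRing Λq] (𝔮' : Ideal Λ')
    [𝔮'.IsPrime] [Algebra Λ' Λq] [IsLocalization.AtPrime Λq 𝔮'] (g : P →+* Λ')
    (hg : Function.Surjective g) (h𝔭 : ∀ x, x ∈ 𝔭 → g x ∈ 𝔮') (F : Lb 𝔭 N →+* Λq)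
    (hF : ∀ x, F (Ideal.Quotient.mk _ (algebraMap P (Localization.AtPrime 𝔭) x)) =
      algebraMap Λ' Λq (g x)) : ringKrullDim Λq = 0 := by
  haveI : IsLocalRing (Lb 𝔭 N) := isLocalRing_quot_pow N hN
  haveI : IsArtinianRing (Lb 𝔭 N) := isArtinianRing_quot_pow N
  have hsurj := Lb_lift_surjective 𝔭 N 𝔮' g hg h𝔭 F hF
  haveI : IsLocalRing Λq := IsLocalization.AtPrime.isLocalRing Λq 𝔮'
  refine le_antisymm ?_ ringKrullDim_nonneg_of_nontrivial
  refine le_trans (ringKrullDim_le_of_surjective F hsurj) ?_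
  exact le_of_eq ((ringKrullDimZero_iff_ringKrullDim_eq_zero).mp inferInstance)

end Lb

section RingHomTools

/-- ring homs out of a tensor product. -/
theorem exists_tensor_ringHom {R₀ R S T : Type*} [CommRing R₀] [CommRing R] [CommRing S]
    [CommRing T] [Algebra R₀ R] [Algebra R₀ S] (f : R →+* T) (g : S →+* T)
    (h : ∀ r, f (algebraMap R₀ R r) = g (algebraMap R₀ S r)) :
    ∃ F : R ⊗[R₀] S →+* T, ∀ r s, F (r ⊗ₜ s) = f r * g s := by
  letI : Algebra R₀ T := (f.comp (algebraMap R₀ R)).toAlgebra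
  let f' : R →ₐ[R₀] T := { toRingHom := f, commutes' := fun _ => rfl }
  let g' : S →ₐ[R₀] T := { toRingHom := g, commutes' := fun r => (h r).symm }
  refine ⟨(Algebra.TensorProduct.lift f' g' (fun _ _ => Commute.all _ _)).toRingHom, fun r s => ?_⟩
  show Algebra.TensorProduct.lift f' g' _ (r ⊗ₜ s) = _
  rw [Algebra.TensorProduct.lift_tmul]
  rfl

theorem tensor_ringHom_ext {R₀ R S T : Type*} [CommRing R₀] [CommRing R] [CommRing S]
    [CommRing T] [Algebra R₀ R] [Algebra R₀ S] (F₁ F₂ : R ⊗[R₀] S →+* T)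
    (h1 : ∀ r, F₁ (r ⊗ₜ 1) = F₂ (r ⊗ₜ 1)) (h2 : ∀ s, F₁ (1 ⊗ₜ s) = F₂ (1 ⊗ₜ s)) : F₁ = F₂ := by
  refine RingHom.ext fun x => ?_
  induction x using TensorProduct.induction_on with
  | zero => simp
  | tmul r s =>
    have : r ⊗ₜ[R₀] s = (r ⊗ₜ 1) * (1 ⊗ₜ s) := by
      rw [Algebra.TensorProduct.tmul_mul_tmul, mul_one, one_mul]
    rw [this, map_mul, map_mul, h1, h2]
  | add x y hx hy => rw [map_add, map_add, hx, hy]

variable {A' : Type u} [CommRing A'] {d s : ℕ} (xs : Fin d → A')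
  (as : Fin s → A') (n : ℕ)

/-- ring homs out of `B`. -/
theorem exists_lift_BB_ringHom {T : Type*} [CommRing T] (ψ : A' →+* T)
    (lam : Fin d × Fin s → T) (h : ∀ i, ψ (xs i) ^ n = ∑ j, lam (i, j) * ψ (as j)) :
    ∃ Ψ : BB xs as n →+* T, (∀ a, Ψ (algebraMap A' (BB xs as n) a) = ψ a) ∧
      ∀ ij, Ψ (zB xs as n ij) = lam ij := by
  have hker : ∀ x ∈ Ideal.span (Set.range (relB xs as n)),
      (eval₂Hom ψ lam : MvPolynomial (Fin d × Fin s) A' →+* T) x = 0 := by
    intro x hx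
    have : Ideal.span (Set.range (relB xs as n)) ≤
        RingHom.ker (eval₂Hom ψ lam : MvPolynomial (Fin d × Fin s) A' →+* T) := by
      rw [Ideal.span_le]
      rintro _ ⟨i, rfl⟩
      show (eval₂Hom ψ lam) (relB xs as n i) = 0
      unfold relB
      rw [map_sub, map_pow, map_sum, sub_eq_zero]
      simp only [map_mul, eval₂Hom_X', eval₂Hom_C]
      exact h i
    exact this hx
  refine ⟨Ideal.Quotient.lift (Ideal.span (Set.range (relB xs as n)))
    (eval₂Hom ψ lam : MvPolynomial (Fin d × Fin s) A' →+* T) hker, fun a => ?_, fun ij => ?_⟩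
  · show Ideal.Quotient.lift _ _ hker (Ideal.Quotient.mk _ (C a)) = _
    rw [Ideal.Quotient.lift_mk, eval₂Hom_C]
  · show Ideal.Quotient.lift _ _ hker (Ideal.Quotient.mk _ (X ij)) = _
    rw [Ideal.Quotient.lift_mk, eval₂Hom_X']

end RingHomTools

/-- If, over the localization `Rₚ` of the base at the prime under `𝔮'`, the map `C' → Λ'_{𝔮'}`
factors through a smooth `Rₚ`-algebra and `Λ'_{𝔮'}` is zero-dimensional, then the local problem can
be resolved. -/
theorem resolvable_of_smooth_loc {R' C' Λ' B' : Type u} [CommRing R'] [IsNoetherianRing R']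
    [CommRing C'] [Algebra R' C'] [Algebra.FinitePresentation R' C'] [CommRing Λ'] [Algebra R' Λ']
    (φ' : C' →ₐ[R'] Λ') (𝔮' : Ideal Λ') [𝔮'.IsPrime]
    (hdim : ringKrullDim (Localization.AtPrime 𝔮') = 0)
    [CommRing B'] [Algebra (Localization.AtPrime (𝔮'.comap (algebraMap R' Λ'))) B']
    [Algebra.Smooth (Localization.AtPrime (𝔮'.comap (algebraMap R' Λ'))) B']
    (g₀ : C' →+* B')
    (hg₀ : ∀ r, g₀ (algebraMap R' C' r) =
      algebraMap (Localization.AtPrime (𝔮'.comap (algebraMap R' Λ'))) B'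
        (algebraMap R' (Localization.AtPrime (𝔮'.comap (algebraMap R' Λ'))) r))
    (h : B' →+* Localization.AtPrime 𝔮')
    (hh : ∀ x, h (algebraMap (Localization.AtPrime (𝔮'.comap (algebraMap R' Λ'))) B' x) =
      Localization.localRingHom (𝔮'.comap (algebraMap R' Λ')) 𝔮' (algebraMap R' Λ') rfl x)
    (hgh : ∀ c, h (g₀ c) = algebraMap Λ' (Localization.AtPrime 𝔮') (φ' c)) :
    Smoothing.Resolvable R' φ' 𝔮' := by
  classical
  by_cases hle : Smoothing.singRad R' φ' ≤ 𝔮'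
  · have hht : 𝔮'.height = 0 := by
      have h1 := IsLocalization.AtPrime.ringKrullDim_eq_height 𝔮' (Localization.AtPrime 𝔮')
      rw [hdim] at h1
      exact_mod_cast h1.symm
    have hminΛ : 𝔮' ∈ minimalPrimes Λ' := Ideal.height_eq_zero_iff.mp hht
    have hmin : 𝔮' ∈ (Smoothing.singRad R' φ').minimalPrimes := by
      refine ⟨⟨inferInstance, hle⟩, fun P hP hPle => ?_⟩
      exact hminΛ.2 ⟨hP.1, bot_le⟩ hPle
    have hne : 𝔮'.map (algebraMap Λ' (Localization.AtPrime 𝔮')) ≠ ⊤ := by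
      rw [IsLocalization.AtPrime.map_eq_maximalIdeal 𝔮' (Localization.AtPrime 𝔮')]
      exact Ideal.IsPrime.ne_top'
    letI algRq : Algebra (Localization.AtPrime (𝔮'.comap (algebraMap R' Λ')))
        (Localization.AtPrime 𝔮') :=
      (Localization.localRingHom (𝔮'.comap (algebraMap R' Λ')) 𝔮' (algebraMap R' Λ') rfl).toAlgebra
    haveI tw : IsScalarTower R' (Localization.AtPrime (𝔮'.comap (algebraMap R' Λ')))
        (Localization.AtPrime 𝔮') := by
      refine IsScalarTower.of_algebraMap_eq fun r => ?_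
      show _ = Localization.localRingHom (𝔮'.comap (algebraMap R' Λ')) 𝔮' (algebraMap R' Λ') rfl
        (algebraMap R' _ r)
      rw [Localization.localRingHom_to_map, ← IsScalarTower.algebraMap_apply]
    letI algR'B : Algebra R' B' :=
      ((algebraMap (Localization.AtPrime (𝔮'.comap (algebraMap R' Λ'))) B').comp
        (algebraMap R' _)).toAlgebra
    haveI tw2 : IsScalarTower R' (Localization.AtPrime (𝔮'.comap (algebraMap R' Λ'))) B' :=
      IsScalarTower.of_algebraMap_eq fun _ => rfl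
    let g₀' : C' →ₐ[R'] B' := { toRingHom := g₀, commutes' := hg₀ }
    let h' : B' →ₐ[Localization.AtPrime (𝔮'.comap (algebraMap R' Λ'))] Localization.AtPrime 𝔮' :=
      { toRingHom := h, commutes' := hh }
    refine Groth.Agent.S2034.result (Rₚ := Localization.AtPrime (𝔮'.comap (algebraMap R' Λ')))
      (Λq := Localization.AtPrime 𝔮') φ' 𝔮' hmin hdim ?_
    obtain ⟨G, hG⟩ : ∃ G : Localization.AtPrime (𝔮'.comap (algebraMap R' Λ')) ⊗[R'] C' →ₐ[
        Localization.AtPrime (𝔮'.comap (algebraMap R' Λ'))] B', ∀ c, G (1 ⊗ₜ c) = g₀ c := by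
      refine ⟨Algebra.TensorProduct.lift (Algebra.ofId _ B') g₀' (fun _ _ => Commute.all _ _),
        fun c => ?_⟩
      rw [Algebra.TensorProduct.lift_tmul, map_one, one_mul]
      rfl
    refine resolvable_of_smooth _ _ hne G h' ?_
    apply Algebra.TensorProduct.ext
    · ext
    · ext c
      show h (G (1 ⊗ₜ c)) = _
      rw [hG, hgh]
      simp
  · exact ⟨C', inferInstance, inferInstance, inferInstance, AlgHom.id R' C', φ', rfl, le_rfl, hle⟩

/-- base change of the smooth factorization given by ind-smoothness. -/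
theorem exists_smooth_baseChange {S D Rp Λq C₀ : Type u} [CommRing S] [CommRing D] [Algebra S D]
    (hind : Smoothing.IndSmooth S D) [CommRing Rp] [Algebra S Rp] [CommRing Λq] [Algebra Rp Λq]
    (χ : D →+* Λq) (hχ : ∀ s, χ (algebraMap S D s) = algebraMap Rp Λq (algebraMap S Rp s))
    [CommRing C₀] [Algebra S C₀] [Algebra.FinitePresentation S C₀] (θ : C₀ →ₐ[S] D) :
    ∃ (B' : Type u) (_ : CommRing B') (_ : Algebra Rp B') (_ : Algebra.Smooth Rp B')
      (g₁ : C₀ →+* B') (h : B' →+* Λq),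
      (∀ s, g₁ (algebraMap S C₀ s) = algebraMap Rp B' (algebraMap S Rp s)) ∧
      (∀ x, h (algebraMap Rp B' x) = algebraMap Rp Λq x) ∧ ∀ x, h (g₁ x) = χ (θ x) := by
  obtain ⟨B₀, _, _, hsm, g, h₀, hgh⟩ := hind C₀ inferInstance θ
  haveI := hsm
  letI : Algebra S Λq := ((algebraMap Rp Λq).comp (algebraMap S Rp)).toAlgebra
  haveI : IsScalarTower S Rp Λq := IsScalarTower.of_algebraMap_eq fun _ => rfl
  let χ' : D →ₐ[S] Λq := { toRingHom := χ, commutes' := hχ }
  refine ⟨Rp ⊗[S] B₀, inferInstance, inferInstance, inferInstance,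
    (Algebra.TensorProduct.includeRight.toRingHom.comp g.toRingHom : C₀ →+* Rp ⊗[S] B₀),
    (Algebra.TensorProduct.lift (Algebra.ofId Rp Λq) (χ'.comp h₀)
      (fun _ _ => Commute.all _ _)).toRingHom, fun s => ?_, fun x => ?_, fun x => ?_⟩
  · show (1 : Rp) ⊗ₜ[S] g (algebraMap S C₀ s) = _
    have e1 : g (algebraMap S C₀ s) = s • (1 : B₀) := by
      rw [AlgHom.commutes, Algebra.algebraMap_eq_smul_one]
    have e2 : algebraMap S Rp s = s • (1 : Rp) := Algebra.algebraMap_eq_smul_one s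
    rw [e1, Algebra.TensorProduct.algebraMap_apply, Algebra.algebraMap_self_apply, e2,
      TensorProduct.tmul_smul, TensorProduct.smul_tmul']
  · show Algebra.TensorProduct.lift (Algebra.ofId Rp Λq) (χ'.comp h₀) _ (algebraMap Rp _ x) = _
    rw [AlgHom.commutes]
  · show Algebra.TensorProduct.lift (Algebra.ofId Rp Λq) (χ'.comp h₀) _ ((1 : Rp) ⊗ₜ[S] g x) = _
    rw [Algebra.TensorProduct.lift_tmul, map_one, one_mul]
    show χ (h₀ (g x)) = χ (θ x)
    have := DFunLike.congr_fun hgh x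
    rw [AlgHom.comp_apply] at this
    rw [this]

end Groth.Agent.H5.Ins
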