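import Mathlib
import Groth.Prelude.Def_Smoothing
import Groth.Agent.Lib.Helper5.Ins.I
import Groth.Agent.Lib.Helper5.Ins.J

/-! The core of the reduction step, in abstract form. -/

set_option autoImplicit false
universe u

namespace Groth.Agent.H5.Ins

open Groth.Agent.H5.Sep TensorProduct MvPolynomial

set_option maxHeartbeats 2000000 in
theorem RED_core {k A R₀ S D Rp Λq Λ Cs₀ : Type u} [CommRing k] [CommRing A] [Algebra k A]
    [Algebra.FinitePresentation k A]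
    [CommRing R₀] [Algebra k R₀] [CommRing S] [Algebra k S] [CommRing D] [Algebra S D]
    [Algebra k D] [IsScalarTower k S D] (hind : Smoothing.IndSmooth S D)
    [CommRing Rp] [Algebra S Rp] [CommRing Λq] [Algebra Rp Λq]
    (χ : D →+* Λq) (hχ : ∀ s, χ (algebraMap S D s) = algebraMap Rp Λq (algebraMap S Rp s))
    [CommRing Λ] [Algebra R₀ Λ] [CommRing Cs₀] [Algebra R₀ Cs₀]
    {d s : ℕ} (x₀ : Fin d → R₀) (as : Fin s → A) (n : ℕ)
    (ρ₀ : Cs₀ →ₐ[R₀] BB (fun i : Fin d => x₀ i ⊗ₜ[k] (1 : A))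
      (fun j : Fin s => (1 : R₀) ⊗ₜ[k] as j) n)
    (Ψ₀ : BB (fun i : Fin d => x₀ i ⊗ₜ[k] (1 : A))
      (fun j : Fin s => (1 : R₀) ⊗ₜ[k] as j) n →ₐ[R₀] Λ)
    (φD : A →ₐ[k] D) (πS : Fin d → S) (μ' : Fin d × Fin s → D)
    (hμ' : ∀ i, algebraMap S D (πS i) ^ n = ∑ j, μ' (i, j) * φD (as j))
    (fR₀ : R₀ →+* Rp) (t : Fin d → Rp)
    (hfR₀x : ∀ i, fR₀ (x₀ i) = algebraMap S Rp (πS i) * t i)
    (hfR₀k : ∀ c : k, fR₀ (algebraMap k R₀ c) = algebraMap S Rp (algebraMap k S c))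
    (fΛ : Λ →+* Λq)
    (hfΛR₀ : ∀ r, fΛ (algebraMap R₀ Λ r) = algebraMap Rp Λq (fR₀ r))
    (hfΛA : ∀ a : A, fΛ (Ψ₀ (algebraMap (R₀ ⊗[k] A) _ ((1 : R₀) ⊗ₜ[k] a))) = χ (φD a))
    (hfΛz : ∀ ij : Fin d × Fin s, fΛ (Ψ₀ (zB _ _ n ij)) =
      algebraMap Rp Λq (t ij.1) ^ n * χ (μ' ij)) :
    ∃ (B' : Type u) (_ : CommRing B') (_ : Algebra Rp B') (_ : Algebra.Smooth Rp B')
      (G₀ : Cs₀ →+* B') (h : B' →+* Λq),
      (∀ r, G₀ (algebraMap R₀ Cs₀ r) = algebraMap Rp B' (fR₀ r)) ∧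
      (∀ x, h (algebraMap Rp B' x) = algebraMap Rp Λq x) ∧
      ∀ x, h (G₀ x) = fΛ (Ψ₀ (ρ₀ x)) := by
  classical
  -- the algebra `C₀` over `S`
  obtain ⟨ψ'', hψ''1, hψ''2⟩ : ∃ ψ'' : S ⊗[k] A →ₐ[S] D,
      (∀ x, ψ'' (x ⊗ₜ 1) = algebraMap _ D x) ∧ ∀ a, ψ'' (1 ⊗ₜ a) = φD a := by
    refine ⟨Algebra.TensorProduct.lift (Algebra.ofId _ D) φD (fun _ _ => Commute.all _ _),
      fun x => ?_, fun a => ?_⟩
    · rw [Algebra.TensorProduct.lift_tmul, map_one, mul_one]; rfl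
    · rw [Algebra.TensorProduct.lift_tmul, map_one, one_mul]
  obtain ⟨xs'', hxs''⟩ : ∃ xs'' : Fin d → S ⊗[k] A,
      xs'' = fun i => πS i ⊗ₜ[k] (1 : A) := ⟨_, rfl⟩
  obtain ⟨as'', has''⟩ : ∃ as'' : Fin s → S ⊗[k] A,
      as'' = fun j => (1 : S) ⊗ₜ[k] as j := ⟨_, rfl⟩
  have hrel : ∀ i, ψ'' (xs'' i) ^ n = ∑ j, μ' (i, j) * ψ'' (as'' j) := by
    intro i
    rw [hxs'', has'']
    simp only [hψ''1, hψ''2]
    exact hμ' i
  obtain ⟨θ, hθA, hθz⟩ := exists_lift_BB' (R := S) xs'' as'' n ψ'' μ' hrel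
  haveI fpC₀ : Algebra.FinitePresentation S (BB xs'' as'' n) :=
    finitePresentation_BB (R := S) xs'' as'' n
  obtain ⟨B', _, _, smB', g₁, h, hg₁S, hhRp, hhg₁⟩ := exists_smooth_baseChange
    (S := S) (D := D) (Rp := Rp) (Λq := Λq) hind χ hχ θ
  haveI := smB'
  refine ⟨B', inferInstance, inferInstance, smB', ?_⟩
  have hg₁S' : ∀ x : S, g₁ (algebraMap (S ⊗[k] A) (BB xs'' as'' n) (x ⊗ₜ[k] (1 : A))) =
      algebraMap Rp B' (algebraMap S Rp x) := by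
    intro x
    have e : x ⊗ₜ[k] (1 : A) = algebraMap S (S ⊗[k] A) x := by
      rw [Algebra.TensorProduct.algebraMap_apply]; rfl
    rw [e, ← IsScalarTower.algebraMap_apply, hg₁S]
  obtain ⟨gA, hgA⟩ : ∃ gA : A →+* B', ∀ a, gA a =
      g₁ (algebraMap (S ⊗[k] A) (BB xs'' as'' n) ((1 : S) ⊗ₜ[k] a)) :=
    ⟨g₁.comp ((algebraMap (S ⊗[k] A) (BB xs'' as'' n)).comp
      (Algebra.TensorProduct.includeRight : A →ₐ[k] S ⊗[k] A).toRingHom), fun a => rfl⟩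
  have hagree : ∀ c : k, ((algebraMap Rp B').comp fR₀) (algebraMap k R₀ c) =
      gA (algebraMap k A c) := by
    intro c
    rw [RingHom.comp_apply, hfR₀k, hgA]
    have e : (1 : S) ⊗ₜ[k] algebraMap k A c = (algebraMap k S c) ⊗ₜ[k] (1 : A) := by
      rw [Algebra.algebraMap_eq_smul_one, Algebra.algebraMap_eq_smul_one, TensorProduct.tmul_smul,
        TensorProduct.smul_tmul']
    rw [e, hg₁S']
  obtain ⟨ψB, hψB⟩ := exists_tensor_ringHom (R₀ := k) (R := R₀) (S := A)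
    ((algebraMap Rp B').comp fR₀) gA hagree
  obtain ⟨lamB, hlamB⟩ : ∃ lamB : Fin d × Fin s → B',
      lamB = fun ij => algebraMap Rp B' (t ij.1) ^ n * g₁ (zB xs'' as'' n ij) := ⟨_, rfl⟩
  have hrelB : ∀ i, ψB (x₀ i ⊗ₜ[k] (1 : A)) ^ n =
      ∑ j, lamB (i, j) * ψB ((1 : R₀) ⊗ₜ[k] as j) := by
    intro i
    have hrel'' := congrArg g₁ (rel_BB xs'' as'' n i)
    rw [map_pow, map_sum] at hrel''
    have e1 : g₁ (algebraMap (S ⊗[k] A) (BB xs'' as'' n) (xs'' i)) =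
        algebraMap Rp B' (algebraMap S Rp (πS i)) := by
      have hxi : xs'' i = πS i ⊗ₜ[k] (1 : A) := by rw [hxs'']
      rw [hxi, hg₁S']
    rw [e1] at hrel''
    rw [hψB, RingHom.comp_apply, hfR₀x, map_one, mul_one, map_mul, mul_pow, hrel'', Finset.sum_mul]
    refine Finset.sum_congr rfl fun j _ => ?_
    have haj : as'' j = (1 : S) ⊗ₜ[k] as j := by rw [has'']
    rw [hψB, map_one, one_mul, hgA, hlamB, map_mul, haj]
    ring
  obtain ⟨ΨB, hΨBA, hΨBz⟩ := exists_lift_BB_ringHom (fun i : Fin d => x₀ i ⊗ₜ[k] (1 : A))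
    (fun j : Fin s => (1 : R₀) ⊗ₜ[k] as j) n ψB lamB hrelB
  refine ⟨ΨB.comp ρ₀.toRingHom, h, fun r => ?_, hhRp, fun x => ?_⟩
  · show ΨB (ρ₀ (algebraMap R₀ Cs₀ r)) = _
    rw [AlgHom.commutes, IsScalarTower.algebraMap_apply R₀ (R₀ ⊗[k] A), hΨBA,
      Algebra.TensorProduct.algebraMap_apply, hψB, map_one, mul_one]
    rfl
  · show h (ΨB (ρ₀ x)) = _
    have hBB : h.comp ΨB = fΛ.comp Ψ₀.toRingHom := by
      refine BB_ringHom_ext _ _ n _ _ (fun a => ?_) (fun ij => ?_)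
      · have hA' : (h.comp ΨB).comp (algebraMap (R₀ ⊗[k] A) _) =
            (fΛ.comp Ψ₀.toRingHom).comp (algebraMap (R₀ ⊗[k] A) _) := by
          refine tensor_ringHom_ext _ _ (fun r => ?_) (fun a => ?_)
          · show h (ΨB (algebraMap (R₀ ⊗[k] A) _ (r ⊗ₜ 1))) =
              fΛ (Ψ₀ (algebraMap (R₀ ⊗[k] A) _ (r ⊗ₜ 1)))
            have e : r ⊗ₜ[k] (1 : A) = algebraMap R₀ (R₀ ⊗[k] A) r := by
              rw [Algebra.TensorProduct.algebraMap_apply]; rfl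
            rw [hΨBA, hψB, map_one, mul_one, RingHom.comp_apply, hhRp, e,
              ← IsScalarTower.algebraMap_apply, AlgHom.commutes, hfΛR₀]
          · show h (ΨB (algebraMap (R₀ ⊗[k] A) _ (1 ⊗ₜ a))) =
              fΛ (Ψ₀ (algebraMap (R₀ ⊗[k] A) _ (1 ⊗ₜ a)))
            rw [hΨBA, hψB, map_one, one_mul, hgA, hhg₁, hθA, hψ''2, hfΛA]
        exact DFunLike.congr_fun hA' a
      · show h (ΨB (zB _ _ n ij)) = fΛ (Ψ₀ (zB _ _ n ij))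
        rw [hΨBz, hlamB, map_mul, map_pow, hhRp, hhg₁, hθz, hfΛz]
    exact DFunLike.congr_fun hBB (ρ₀ x)

end Groth.Agent.H5.Ins
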