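import Mathlib
import Groth.Prelude.Def_Smoothing
import Groth.Agent.Lib.Helper5.Ins.I
import Groth.Agent.Lib.Helper5.Ins.J
import Groth.Agent.Lib.Helper5.Ins.K0
import Groth.Agent.Lib.Helper5.Des.Z4

/-! The reduction step: resolving modulo the parameters. -/

set_option autoImplicit false
universe u

namespace Groth.Agent.H5.Ins

open Groth.Agent.H5.Sep TensorProduct MvPolynomial IsLocalRing

set_option maxHeartbeats 4000000 in
theorem resolvable_RED {k Λ P A Cs₀ : Type u} [Field k] [CommRing Λ] [Algebra k Λ]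
    [IsNoetherianRing Λ] (𝔮 : Ideal Λ) [𝔮.IsPrime]
    [CommRing P] [Algebra k P] [IsNoetherianRing P] (φP : P →ₐ[k] Λ) {d : ℕ} (hd : 0 < d)
    (π' : Fin d → P) (δ : Fin d → Λ) (hδ : ∀ i, δ i ∉ 𝔮)
    (hπ'span : Ideal.span (Set.range fun i =>
      algebraMap P (Localization.AtPrime (𝔮.comap φP)) (π' i)) =
        maximalIdeal (Localization.AtPrime (𝔮.comap φP)))
    (hϖspan : Ideal.span (Set.range fun i =>
      algebraMap Λ (Localization.AtPrime 𝔮) (φP (π' i))) = maximalIdeal (Localization.AtPrime 𝔮))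
    [Algebra (MvPolynomial (Fin d) P) Λ]
    (halgC : ∀ f, algebraMap (MvPolynomial (Fin d) P) Λ (C f) = φP f)
    (halgX : ∀ i, algebraMap (MvPolynomial (Fin d) P) Λ (X i) = δ i)
    (E N n : ℕ) (hE : 0 < E) (hN : d * E ≤ N)
    (K : Ideal (MvPolynomial (Fin d) P))
    (hK : K = Ideal.span (Set.range fun i : Fin d =>
      (C (π' i) * X i : MvPolynomial (Fin d) P) ^ E))
    (D : Subalgebra k (Lb 𝔮 N)) [Algebra (Lb (𝔮.comap φP) N) D]
    (hPD : ∀ f, rho k 𝔮 N (φP f) ∈ D)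
    (hcompat : ∀ f, algebraMap (Lb (𝔮.comap φP) N) D (rho k (𝔮.comap φP) N f) =
      ⟨rho k 𝔮 N (φP f), hPD f⟩)
    (hind : Smoothing.IndSmooth (Lb (𝔮.comap φP) N) D)
    [CommRing A] [Algebra k A] [Algebra.FinitePresentation k A] (φ : A →ₐ[k] Λ)
    (hφD : ∀ a, rho k 𝔮 N (φ a) ∈ D) {s : ℕ} (as : Fin s → A)
    (μ' : Fin d × Fin s → D)
    (hμ' : ∀ i, (⟨rho k 𝔮 N (φP (π' i)), hPD _⟩ : D) ^ n =
      ∑ j, μ' (i, j) * ⟨rho k 𝔮 N (φ (as j)), hφD _⟩)
    (m₀ : Fin d × Fin s → Localization.AtPrime 𝔮)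
    (hm₀ : ∀ ij, Ideal.Quotient.mk (maximalIdeal (Localization.AtPrime 𝔮) ^ N) (m₀ ij) =
      (μ' ij : Lb 𝔮 N))
    (lam : Fin d × Fin s → Λ)
    (hcong : ∀ ij : Fin d × Fin s, algebraMap Λ (Localization.AtPrime 𝔮) (lam ij) -
      algebraMap Λ (Localization.AtPrime 𝔮) (δ ij.1) ^ n * m₀ ij ∈
        maximalIdeal (Localization.AtPrime 𝔮) ^ (d * E))
    [Algebra (MvPolynomial (Fin d) k) (MvPolynomial (Fin d) P)]
    [IsScalarTower k (MvPolynomial (Fin d) k) (MvPolynomial (Fin d) P)]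
    (hR₀X : ∀ i, algebraMap (MvPolynomial (Fin d) k) (MvPolynomial (Fin d) P) (X i) =
      C (π' i) * X i)
    [CommRing Cs₀] [Algebra (MvPolynomial (Fin d) k) Cs₀]
    [Algebra.FinitePresentation (MvPolynomial (Fin d) k) Cs₀]
    (ρ₀ : Cs₀ →ₐ[MvPolynomial (Fin d) k]
      BB (fun i : Fin d => (X i : MvPolynomial (Fin d) k) ⊗ₜ[k] (1 : A))
        (fun j : Fin s => (1 : MvPolynomial (Fin d) k) ⊗ₜ[k] as j) n)
    [Algebra (MvPolynomial (Fin d) k) Λ]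
    [IsScalarTower (MvPolynomial (Fin d) k) (MvPolynomial (Fin d) P) Λ]
    (Ψ₀ : BB (fun i : Fin d => (X i : MvPolynomial (Fin d) k) ⊗ₜ[k] (1 : A))
        (fun j : Fin s => (1 : MvPolynomial (Fin d) k) ⊗ₜ[k] as j) n →ₐ[MvPolynomial (Fin d) k] Λ)
    (hΨ₀A : ∀ a : A, Ψ₀ (algebraMap (MvPolynomial (Fin d) k ⊗[k] A) _
      ((1 : MvPolynomial (Fin d) k) ⊗ₜ[k] a)) = φ a)
    (hΨ₀z : ∀ ij, Ψ₀ (zB _ _ n ij) = lam ij)
    (ψC : MvPolynomial (Fin d) P ⊗[MvPolynomial (Fin d) k] Cs₀ →ₐ[MvPolynomial (Fin d) P] Λ)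
    (hψC : ∀ x, ψC (1 ⊗ₜ x) = Ψ₀ (ρ₀ x)) :
    Smoothing.Resolvable (MvPolynomial (Fin d) P ⧸ K) (Groth.Agent.H5.Des.phiK K ψC)
      (𝔮.map (Ideal.Quotient.mk (K.map (algebraMap (MvPolynomial (Fin d) P) Λ)))) := by
  classical
  -- basic facts
  have hϖ𝔮 : ∀ i, φP (π' i) ∈ 𝔮 := by
    intro i
    rw [← IsLocalization.AtPrime.to_map_mem_maximal_iff (Localization.AtPrime 𝔮) 𝔮, ← hϖspan]
    exact Ideal.subset_span ⟨i, rfl⟩
  have hgenK : ∀ i, (C (π' i) * X i : MvPolynomial (Fin d) P) ^ E ∈ K := fun i => by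
    rw [hK]; exact Ideal.subset_span ⟨i, rfl⟩
  have hKΛ𝔮 : K.map (algebraMap (MvPolynomial (Fin d) P) Λ) ≤ 𝔮 := by
    rw [Ideal.map_le_iff_le_comap, hK, Ideal.span_le]
    rintro _ ⟨i, rfl⟩
    show algebraMap (MvPolynomial (Fin d) P) Λ ((C (π' i) * X i) ^ E) ∈ 𝔮
    rw [map_pow, map_mul, halgC]
    exact Ideal.pow_mem_of_mem _ (Ideal.mul_mem_right _ _ (hϖ𝔮 i)) _ hE
  have hmk𝔮 : ∀ y : Λ, Ideal.Quotient.mk (K.map (algebraMap (MvPolynomial (Fin d) P) Λ)) y ∈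
      𝔮.map (Ideal.Quotient.mk (K.map (algebraMap (MvPolynomial (Fin d) P) Λ))) ↔ y ∈ 𝔮 := by
    intro y
    rw [Ideal.mem_map_iff_of_surjective _ Ideal.Quotient.mk_surjective]
    constructor
    · rintro ⟨z, hz, hzy⟩
      have : z - y ∈ K.map (algebraMap (MvPolynomial (Fin d) P) Λ) := Ideal.Quotient.eq.mp hzy
      have h2 := 𝔮.sub_mem hz (hKΛ𝔮 this)
      simpa using h2
    · intro hy
      exact ⟨y, hy, rfl⟩
  haveI hprime : (𝔮.map (Ideal.Quotient.mk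
      (K.map (algebraMap (MvPolynomial (Fin d) P) Λ)))).IsPrime := by
    refine Ideal.map_isPrime_of_surjective Ideal.Quotient.mk_surjective ?_
    rw [Ideal.mk_ker]; exact hKΛ𝔮
  obtain ⟨𝔮', h𝔮'def⟩ : ∃ 𝔮' : Ideal (Λ ⧸ K.map (algebraMap (MvPolynomial (Fin d) P) Λ)),
      𝔮' = 𝔮.map (Ideal.Quotient.mk (K.map (algebraMap (MvPolynomial (Fin d) P) Λ))) := ⟨_, rfl⟩
  rw [← h𝔮'def] at hmk𝔮 hprime ⊢
  have hmkR : ∀ r : MvPolynomial (Fin d) P,
      algebraMap (MvPolynomial (Fin d) P ⧸ K) (Λ ⧸ K.map (algebraMap (MvPolynomial (Fin d) P) Λ))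
        (Ideal.Quotient.mk K r) = Ideal.Quotient.mk _ (algebraMap (MvPolynomial (Fin d) P) Λ r) :=
    fun r => rfl
  -- units of `Rₚ`
  have hunitR : ∀ r : MvPolynomial (Fin d) P, algebraMap (MvPolynomial (Fin d) P) Λ r ∉ 𝔮 →
      IsUnit (algebraMap (MvPolynomial (Fin d) P ⧸ K) (Localization.AtPrime (𝔮'.comap
        (algebraMap (MvPolynomial (Fin d) P ⧸ K)
          (Λ ⧸ K.map (algebraMap (MvPolynomial (Fin d) P) Λ))))) (Ideal.Quotient.mk K r)) := by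
    intro r hr
    have : Ideal.Quotient.mk K r ∈ (𝔮'.comap (algebraMap (MvPolynomial (Fin d) P ⧸ K)
        (Λ ⧸ K.map (algebraMap (MvPolynomial (Fin d) P) Λ)))).primeCompl := by
      intro hmem
      have hmem' : algebraMap (MvPolynomial (Fin d) P ⧸ K)
          (Λ ⧸ K.map (algebraMap (MvPolynomial (Fin d) P) Λ)) (Ideal.Quotient.mk K r) ∈ 𝔮' := hmem
      rw [hmkR, hmk𝔮] at hmem'
      exact hr hmem'
    exact IsLocalization.map_units _ (⟨_, this⟩ : (𝔮'.comap (algebraMap (MvPolynomial (Fin d) P ⧸ K)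
        (Λ ⧸ K.map (algebraMap (MvPolynomial (Fin d) P) Λ)))).primeCompl)
  -- the map `P → Rₚ`
  obtain ⟨fR, hfR⟩ : ∃ fR : P →+* Localization.AtPrime (𝔮'.comap
      (algebraMap (MvPolynomial (Fin d) P ⧸ K) (Λ ⧸ K.map (algebraMap (MvPolynomial (Fin d) P) Λ)))),
      ∀ f, fR f = algebraMap (MvPolynomial (Fin d) P ⧸ K) _ (Ideal.Quotient.mk K (C f)) :=
    ⟨(algebraMap (MvPolynomial (Fin d) P ⧸ K) _).comp ((Ideal.Quotient.mk K).comp C), fun f => rfl⟩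
  have hu_fR : ∀ x, x ∉ 𝔮.comap φP → IsUnit (fR x) := by
    intro x hx
    rw [hfR]
    refine hunitR _ ?_
    rw [halgC]
    exact hx
  have htunit : ∀ i, IsUnit (algebraMap (MvPolynomial (Fin d) P ⧸ K) (Localization.AtPrime
      (𝔮'.comap (algebraMap (MvPolynomial (Fin d) P ⧸ K)
        (Λ ⧸ K.map (algebraMap (MvPolynomial (Fin d) P) Λ))))) (Ideal.Quotient.mk K (X i))) := by
    intro i
    refine hunitR _ ?_
    rw [halgX]
    exact hδ i
  have hE_fR : ∀ i, fR (π' i) ^ E = 0 := by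
    intro i
    have h0 : algebraMap (MvPolynomial (Fin d) P ⧸ K) (Localization.AtPrime
        (𝔮'.comap (algebraMap (MvPolynomial (Fin d) P ⧸ K)
          (Λ ⧸ K.map (algebraMap (MvPolynomial (Fin d) P) Λ)))))
        (Ideal.Quotient.mk K ((C (π' i) * X i) ^ E)) = 0 := by
      rw [Ideal.Quotient.eq_zero_iff_mem.mpr (hgenK i), map_zero]
    rw [map_pow, map_mul, map_pow, map_mul, mul_pow, ← hfR] at h0
    exact ((htunit i).pow E).mul_left_eq_zero.mp h0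
  obtain ⟨FS, hFS, -⟩ := exists_Lb_lift (T := Localization.AtPrime (𝔮'.comap
      (algebraMap (MvPolynomial (Fin d) P ⧸ K) (Λ ⧸ K.map (algebraMap (MvPolynomial (Fin d) P) Λ)))))
    (𝔮.comap φP) N fR hu_fR hd π' hπ'span E hE_fR hN
  -- the map `Λ → Λq`
  obtain ⟨fΛ, hfΛ⟩ : ∃ fΛ : Λ →+* Localization.AtPrime 𝔮',
      ∀ x, fΛ x = algebraMap (Λ ⧸ K.map (algebraMap (MvPolynomial (Fin d) P) Λ)) _
        (Ideal.Quotient.mk _ x) :=
    ⟨(algebraMap (Λ ⧸ K.map (algebraMap (MvPolynomial (Fin d) P) Λ)) _).comp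
      (Ideal.Quotient.mk _), fun x => rfl⟩
  have hu_fΛ : ∀ x, x ∉ 𝔮 → IsUnit (fΛ x) := by
    intro x hx
    rw [hfΛ]
    have : Ideal.Quotient.mk (K.map (algebraMap (MvPolynomial (Fin d) P) Λ)) x ∈ 𝔮'.primeCompl :=
      fun hmem => hx ((hmk𝔮 x).mp hmem)
    exact IsLocalization.map_units _ (⟨_, this⟩ : 𝔮'.primeCompl)
  have hfΛR : ∀ r ∈ K, fΛ (algebraMap (MvPolynomial (Fin d) P) Λ r) = 0 := by
    intro r hr
    rw [hfΛ, Ideal.Quotient.eq_zero_iff_mem.mpr (Ideal.mem_map_of_mem _ hr), map_zero]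
  have hE_fΛ : ∀ i, fΛ (φP (π' i)) ^ E = 0 := by
    intro i
    have h0 := hfΛR _ (hgenK i)
    rw [map_pow, map_mul, halgC, halgX, map_pow, map_mul, mul_pow] at h0
    exact ((hu_fΛ _ (hδ i)).pow E).mul_left_eq_zero.mp h0
  obtain ⟨FL, hFL, hFLkill⟩ := exists_Lb_lift (T := Localization.AtPrime 𝔮') 𝔮 N fΛ hu_fΛ hd
    (fun i => φP (π' i)) hϖspan E hE_fΛ hN
  have hNpos : 0 < N := lt_of_lt_of_le (Nat.mul_pos hd hE) hN
  have hdim : ringKrullDim (Localization.AtPrime 𝔮') = 0 :=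
    ringKrullDim_eq_zero_of_Lb_lift 𝔮 N hNpos 𝔮'
      (Ideal.Quotient.mk (K.map (algebraMap (MvPolynomial (Fin d) P) Λ)))
      Ideal.Quotient.mk_surjective (fun x hx => (hmk𝔮 x).mpr hx) FL
      (fun x => by rw [hFL, hfΛ])
  -- the algebra structures
  letI algSRp : Algebra (Lb (𝔮.comap φP) N) (Localization.AtPrime (𝔮'.comap
      (algebraMap (MvPolynomial (Fin d) P ⧸ K)
        (Λ ⧸ K.map (algebraMap (MvPolynomial (Fin d) P) Λ))))) := FS.toAlgebra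
  letI algRq : Algebra (Localization.AtPrime (𝔮'.comap
      (algebraMap (MvPolynomial (Fin d) P ⧸ K) (Λ ⧸ K.map (algebraMap (MvPolynomial (Fin d) P) Λ)))))
      (Localization.AtPrime 𝔮') :=
    (Localization.localRingHom (𝔮'.comap (algebraMap (MvPolynomial (Fin d) P ⧸ K)
      (Λ ⧸ K.map (algebraMap (MvPolynomial (Fin d) P) Λ)))) 𝔮'
      (algebraMap (MvPolynomial (Fin d) P ⧸ K) (Λ ⧸ K.map (algebraMap (MvPolynomial (Fin d) P) Λ)))
      rfl).toAlgebra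
  have hlocal : ∀ r : MvPolynomial (Fin d) P,
      algebraMap (Localization.AtPrime (𝔮'.comap (algebraMap (MvPolynomial (Fin d) P ⧸ K)
        (Λ ⧸ K.map (algebraMap (MvPolynomial (Fin d) P) Λ))))) (Localization.AtPrime 𝔮')
        (algebraMap (MvPolynomial (Fin d) P ⧸ K) _ (Ideal.Quotient.mk K r)) =
      fΛ (algebraMap (MvPolynomial (Fin d) P) Λ r) := by
    intro r
    show Localization.localRingHom _ _ _ rfl (algebraMap _ _ (Ideal.Quotient.mk K r)) = _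
    rw [Localization.localRingHom_to_map, hmkR, hfΛ]
  obtain ⟨χ, hχdef⟩ : ∃ χ : D →+* Localization.AtPrime 𝔮', ∀ x : D, χ x = FL (x : Lb 𝔮 N) :=
    ⟨FL.comp D.val.toRingHom, fun x => rfl⟩
  have hχ : ∀ s, χ (algebraMap (Lb (𝔮.comap φP) N) D s) =
      algebraMap (Localization.AtPrime (𝔮'.comap (algebraMap (MvPolynomial (Fin d) P ⧸ K)
        (Λ ⧸ K.map (algebraMap (MvPolynomial (Fin d) P) Λ))))) (Localization.AtPrime 𝔮')
        (algebraMap (Lb (𝔮.comap φP) N) _ s) := by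
    have hext := Lb_ringHom_ext (𝔮.comap φP) N (χ.comp (algebraMap (Lb (𝔮.comap φP) N) D))
      ((algebraMap (Localization.AtPrime (𝔮'.comap (algebraMap (MvPolynomial (Fin d) P ⧸ K)
        (Λ ⧸ K.map (algebraMap (MvPolynomial (Fin d) P) Λ))))) (Localization.AtPrime 𝔮')).comp
        (algebraMap (Lb (𝔮.comap φP) N) _)) (fun f => by
        rw [RingHom.comp_apply, RingHom.comp_apply]
        have e1 : algebraMap (Lb (𝔮.comap φP) N) D (Ideal.Quotient.mk _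
            (algebraMap P (Localization.AtPrime (𝔮.comap φP)) f)) = ⟨rho k 𝔮 N (φP f), hPD f⟩ :=
          hcompat f
        rw [e1, hχdef]
        show FL (rho k 𝔮 N (φP f)) = algebraMap _ _ (FS _)
        rw [rho_apply, hFL, hFS, hfR, hlocal, halgC])
    intro s
    exact DFunLike.congr_fun hext s
  -- the algebra `C₀` over `S̄`
  haveI twkSD : IsScalarTower k (Lb (𝔮.comap φP) N) D := by
    refine IsScalarTower.of_algebraMap_eq (R := k) (S := Lb (𝔮.comap φP) N) (A := D) fun t => ?_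
    have e1 : algebraMap k (Lb (𝔮.comap φP) N) t = rho k (𝔮.comap φP) N (algebraMap k P t) := by
      rw [AlgHom.commutes]
    rw [e1, hcompat]
    apply Subtype.ext
    show algebraMap k (Lb 𝔮 N) t = rho k 𝔮 N (φP (algebraMap k P t))
    rw [AlgHom.commutes, AlgHom.commutes]
  obtain ⟨φD, hφDdef⟩ : ∃ φD : A →ₐ[k] D, ∀ a, φD a = ⟨rho k 𝔮 N (φ a), hφD a⟩ :=
    ⟨((rho k 𝔮 N).comp φ).codRestrict D hφD, fun a => rfl⟩
  have hμ'' : ∀ i, algebraMap (Lb (𝔮.comap φP) N) D (rho k (𝔮.comap φP) N (π' i)) ^ n =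
      ∑ j, μ' (i, j) * φD (as j) := by
    intro i
    simp only [hcompat, hφDdef]
    exact hμ' i
  -- the map `R₀ → Rₚ`
  obtain ⟨fR₀, hfR₀⟩ : ∃ fR₀ : MvPolynomial (Fin d) k →+* (Localization.AtPrime (𝔮'.comap (algebraMap (MvPolynomial (Fin d) P ⧸ K)
        (Λ ⧸ K.map (algebraMap (MvPolynomial (Fin d) P) Λ))))), ∀ r, fR₀ r =
      algebraMap (MvPolynomial (Fin d) P ⧸ K) _ (Ideal.Quotient.mk K
        (algebraMap (MvPolynomial (Fin d) k) (MvPolynomial (Fin d) P) r)) :=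
    ⟨(algebraMap (MvPolynomial (Fin d) P ⧸ K) _).comp ((Ideal.Quotient.mk K).comp
      (algebraMap (MvPolynomial (Fin d) k) (MvPolynomial (Fin d) P))), fun r => rfl⟩
  have hFSrho : ∀ f, algebraMap (Lb (𝔮.comap φP) N) (Localization.AtPrime (𝔮'.comap (algebraMap (MvPolynomial (Fin d) P ⧸ K)
        (Λ ⧸ K.map (algebraMap (MvPolynomial (Fin d) P) Λ))))) (rho k (𝔮.comap φP) N f) = fR f :=
    fun f => hFS f
  have hfR₀x : ∀ i, fR₀ (X i) = algebraMap (Lb (𝔮.comap φP) N) (Localization.AtPrime (𝔮'.comap (algebraMap (MvPolynomial (Fin d) P ⧸ K)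
        (Λ ⧸ K.map (algebraMap (MvPolynomial (Fin d) P) Λ)))))
      (rho k (𝔮.comap φP) N (π' i)) * algebraMap (MvPolynomial (Fin d) P ⧸ K) (Localization.AtPrime (𝔮'.comap (algebraMap (MvPolynomial (Fin d) P ⧸ K)
        (Λ ⧸ K.map (algebraMap (MvPolynomial (Fin d) P) Λ)))))
        (Ideal.Quotient.mk K (X i)) := by
    intro i
    rw [hfR₀, hR₀X, map_mul, map_mul, hFSrho, hfR]
  have hfR₀k : ∀ c : k, fR₀ (algebraMap k (MvPolynomial (Fin d) k) c) =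
      algebraMap (Lb (𝔮.comap φP) N) (Localization.AtPrime (𝔮'.comap (algebraMap (MvPolynomial (Fin d) P ⧸ K)
        (Λ ⧸ K.map (algebraMap (MvPolynomial (Fin d) P) Λ))))) (algebraMap k (Lb (𝔮.comap φP) N) c) := by
    intro c
    have e1 : algebraMap k (Lb (𝔮.comap φP) N) c = rho k (𝔮.comap φP) N (algebraMap k P c) := by
      rw [AlgHom.commutes]
    rw [hfR₀, ← IsScalarTower.algebraMap_apply k (MvPolynomial (Fin d) k)
      (MvPolynomial (Fin d) P), MvPolynomial.algebraMap_apply, e1, hFSrho, hfR]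
  have hfΛR₀ : ∀ r, fΛ (algebraMap (MvPolynomial (Fin d) k) Λ r) =
      algebraMap (Localization.AtPrime (𝔮'.comap (algebraMap (MvPolynomial (Fin d) P ⧸ K)
        (Λ ⧸ K.map (algebraMap (MvPolynomial (Fin d) P) Λ))))) (Localization.AtPrime 𝔮') (fR₀ r) := by
    intro r
    rw [hfR₀, hlocal, ← IsScalarTower.algebraMap_apply]
  have hfΛA : ∀ a : A, fΛ (Ψ₀ (algebraMap (MvPolynomial (Fin d) k ⊗[k] A) _
      ((1 : MvPolynomial (Fin d) k) ⊗ₜ[k] a))) = χ (φD a) := by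
    intro a
    rw [hΨ₀A, hχdef, hφDdef]
    show _ = FL (rho k 𝔮 N (φ a))
    rw [rho_apply, hFL]
  have hfΛz : ∀ ij : Fin d × Fin s, fΛ (Ψ₀ (zB _ _ n ij)) =
      algebraMap (Localization.AtPrime (𝔮'.comap (algebraMap (MvPolynomial (Fin d) P ⧸ K)
        (Λ ⧸ K.map (algebraMap (MvPolynomial (Fin d) P) Λ))))) (Localization.AtPrime 𝔮')
        (algebraMap (MvPolynomial (Fin d) P ⧸ K) (Localization.AtPrime (𝔮'.comap (algebraMap (MvPolynomial (Fin d) P ⧸ K)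
        (Λ ⧸ K.map (algebraMap (MvPolynomial (Fin d) P) Λ))))) (Ideal.Quotient.mk K (X ij.1))) ^ n *
        χ (μ' ij) := by
    intro ij
    have h0 := hFLkill _ (hcong ij)
    rw [map_sub, map_sub, sub_eq_zero, map_mul, map_mul, map_pow, map_pow, hFL, hFL, hm₀] at h0
    rw [hΨ₀z, h0, hlocal, halgX, hχdef]
  obtain ⟨B', _, _, smB', G₀, h, hG₀R, hhRp, hhG₀⟩ := RED_core (k := k) (A := A)
    (R₀ := MvPolynomial (Fin d) k) (S := Lb (𝔮.comap φP) N) (D := D) (Rp := (Localization.AtPrime (𝔮'.comap (algebraMap (MvPolynomial (Fin d) P ⧸ K)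
        (Λ ⧸ K.map (algebraMap (MvPolynomial (Fin d) P) Λ))))))
    (Λq := Localization.AtPrime 𝔮') (Λ := Λ) (Cs₀ := Cs₀) hind χ hχ
    (fun i : Fin d => (X i : MvPolynomial (Fin d) k)) as n ρ₀ Ψ₀ φD
    (fun i => rho k (𝔮.comap φP) N (π' i)) μ' hμ'' fR₀
    (fun i => algebraMap (MvPolynomial (Fin d) P ⧸ K) (Localization.AtPrime (𝔮'.comap (algebraMap (MvPolynomial (Fin d) P ⧸ K)
        (Λ ⧸ K.map (algebraMap (MvPolynomial (Fin d) P) Λ))))) (Ideal.Quotient.mk K (X i)))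
    hfR₀x hfR₀k fΛ hfΛR₀ hfΛA hfΛz
  haveI := smB'
  -- the map `R → B'`
  obtain ⟨fRB, hfRB⟩ : ∃ fRB : MvPolynomial (Fin d) P →+* B', ∀ r, fRB r =
      algebraMap (Localization.AtPrime (𝔮'.comap (algebraMap (MvPolynomial (Fin d) P ⧸ K)
        (Λ ⧸ K.map (algebraMap (MvPolynomial (Fin d) P) Λ))))) B'
        (algebraMap (MvPolynomial (Fin d) P ⧸ K) _ (Ideal.Quotient.mk K r)) :=
    ⟨(algebraMap (Localization.AtPrime (𝔮'.comap (algebraMap (MvPolynomial (Fin d) P ⧸ K)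
        (Λ ⧸ K.map (algebraMap (MvPolynomial (Fin d) P) Λ))))) B').comp
      ((algebraMap (MvPolynomial (Fin d) P ⧸ K) _).comp (Ideal.Quotient.mk K)), fun r => rfl⟩
  have hhfRB : ∀ r, h (fRB r) = fΛ (algebraMap (MvPolynomial (Fin d) P) Λ r) := fun r => by
    rw [hfRB, hhRp, hlocal]
  obtain ⟨G, hG⟩ := exists_tensor_ringHom (R₀ := MvPolynomial (Fin d) k)
    (R := MvPolynomial (Fin d) P) (S := Cs₀) fRB G₀ (fun r => by rw [hG₀R, hfRB, hfR₀])
  have hGK : ∀ x ∈ K.map (algebraMap (MvPolynomial (Fin d) P)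
      (MvPolynomial (Fin d) P ⊗[MvPolynomial (Fin d) k] Cs₀)), G x = 0 := by
    have hle : K.map (algebraMap (MvPolynomial (Fin d) P)
        (MvPolynomial (Fin d) P ⊗[MvPolynomial (Fin d) k] Cs₀)) ≤ RingHom.ker G := by
      rw [Ideal.map_le_iff_le_comap]
      intro r hr
      show G (algebraMap _ _ r) = 0
      rw [Algebra.TensorProduct.algebraMap_apply, hG, map_one, mul_one, hfRB,
        Algebra.algebraMap_self_apply, Ideal.Quotient.eq_zero_iff_mem.mpr hr, map_zero, map_zero]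
    exact fun x hx => hle hx
  refine resolvable_of_smooth_loc (Groth.Agent.H5.Des.phiK K ψC) 𝔮' hdim
    (Ideal.Quotient.lift _ G hGK) (fun r' => ?_) h hhRp (fun c => ?_)
  · obtain ⟨r, rfl⟩ := Ideal.Quotient.mk_surjective r'
    show Ideal.Quotient.lift _ G hGK (Ideal.Quotient.mk _ (algebraMap _ _ r)) = _
    rw [Ideal.Quotient.lift_mk, Algebra.TensorProduct.algebraMap_apply, hG, map_one, mul_one, hfRB]
    rfl
  · obtain ⟨x, rfl⟩ := Ideal.Quotient.mk_surjective c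
    rw [Ideal.Quotient.lift_mk, Groth.Agent.H5.Des.phiK_mk, ← hfΛ]
    have hext : h.comp G = fΛ.comp ψC.toRingHom := by
      refine tensor_ringHom_ext _ _ (fun r => ?_) (fun y => ?_)
      · show h (G (r ⊗ₜ 1)) = fΛ (ψC (r ⊗ₜ 1))
        have e : r ⊗ₜ[MvPolynomial (Fin d) k] (1 : Cs₀) = algebraMap (MvPolynomial (Fin d) P)
            (MvPolynomial (Fin d) P ⊗[MvPolynomial (Fin d) k] Cs₀) r := by
          rw [Algebra.TensorProduct.algebraMap_apply]; rfl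
        rw [hG, map_one, mul_one, hhfRB, e, AlgHom.commutes]
      · show h (G (1 ⊗ₜ y)) = fΛ (ψC (1 ⊗ₜ y))
        rw [hG, map_one, one_mul, hhG₀, hψC]
    exact DFunLike.congr_fun hext x

end Groth.Agent.H5.Ins
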