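import Mathlib
import Groth.Prelude.Def_Smoothing
import Groth.Agent.Lib.Helper5.Ins.I
import Groth.Agent.Lib.Helper5.Ins.G2
import Groth.Agent.Lib.Helper5.Sep.G3
import Groth.Agent.Lib.Helper5.CA.NG19
import Groth.Agent.Lib.Helper5.CA.GR3
import Groth.Agent.Lib.Helper3.CA.GRingFF1
import Groth.Agent.S9634
import Groth.Agent.Lib.Helper5.Des.Z5

/-! Helper lemmas for the final assembly of the inseparable case. -/

set_option autoImplicit false
universe u

namespace Groth.Agent.H5.Ins

open Groth.Agent.H5.Sep TensorProduct MvPolynomial IsLocalRing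

/-- coefficients in a faithfully flat local subalgebra. -/
theorem exists_coeff_of_faithfullyFlat {k Λb : Type*} [CommRing k] [CommRing Λb] [Algebra k Λb]
    [IsLocalRing Λb] (D : Subalgebra k Λb) [IsLocalRing D] [Module.Flat D Λb]
    (hmaxD : ∀ a : D, a ∈ maximalIdeal D ↔ (a : Λb) ∈ maximalIdeal Λb) {s : ℕ} (h : Fin s → D)
    (x : D) (hx : (x : Λb) ∈ Ideal.span (Set.range fun j => (h j : Λb))) :
    ∃ μ : Fin s → D, x = ∑ j, μ j * h j := by
  haveI : IsLocalHom (algebraMap D Λb) := by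
    refine ⟨fun a ha => ?_⟩
    by_contra hnu
    have h1 : a ∈ maximalIdeal D := (mem_maximalIdeal _).mpr hnu
    exact (hmaxD a).mp h1 ha
  haveI : Module.FaithfullyFlat D Λb := Module.FaithfullyFlat.of_flat_of_isLocalHom
  have hmap : (Ideal.span (Set.range h)).map (algebraMap D Λb) =
      Ideal.span (Set.range fun j => (h j : Λb)) := by
    rw [Ideal.map_span, ← Set.range_comp]
    rfl
  have hx' : x ∈ ((Ideal.span (Set.range h)).map (algebraMap D Λb)).comap (algebraMap D Λb) := by
    rw [Ideal.mem_comap, hmap]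
    exact hx
  rw [Ideal.comap_map_eq_self_of_faithfullyFlat] at hx'
  obtain ⟨μ, hμ⟩ := Ideal.mem_span_range_iff_exists_fun.mp hx'
  exact ⟨μ, hμ.symm⟩

/-- strict standardness after base change, in the form needed. -/
theorem isStrictlyStandard_algebraMap_baseChange {R₀ R Cs₀ : Type u} [CommRing R₀] [CommRing R]
    [Algebra R₀ R] [CommRing Cs₀] [Algebra R₀ Cs₀] [Algebra.FinitePresentation R₀ Cs₀] (x : R₀)
    (c : ℕ) (h : Smoothing.IsStrictlyStandard R₀ Cs₀ (algebraMap R₀ Cs₀ x ^ c)) :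
    Smoothing.IsStrictlyStandard R (R ⊗[R₀] Cs₀)
      (algebraMap R (R ⊗[R₀] Cs₀) (algebraMap R₀ R x ^ c)) := by
  have h1 := isStrictlyStandard_baseChange (R := R) _ h
  have e : (1 : R) ⊗ₜ[R₀] (algebraMap R₀ Cs₀ x ^ c) =
      algebraMap R (R ⊗[R₀] Cs₀) (algebraMap R₀ R x ^ c) := by
    rw [Algebra.TensorProduct.algebraMap_apply, Algebra.algebraMap_self_apply, ← map_pow, ← map_pow,
      Algebra.algebraMap_eq_smul_one, Algebra.algebraMap_eq_smul_one (A := R),
      TensorProduct.tmul_smul, TensorProduct.smul_tmul']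
  rw [← e]
  exact h1

/-- geometric reducedness of the residue field in dimension zero. -/
theorem isGeometricallyReduced_residueField_of_dim_zero {k Λ : Type u} [Field k] [CommRing Λ]
    [Algebra k Λ] [IsNoetherianRing Λ] (hreg : CAlg.IsGeometricallyRegular k Λ) (𝔮 : Ideal Λ)
    [𝔮.IsPrime] [IsRegularLocalRing (Localization.AtPrime 𝔮)]
    (hd : ringKrullDim (Localization.AtPrime 𝔮) = 0) :
    Algebra.IsGeometricallyReduced k 𝔮.ResidueField := by
  haveI : IsNoetherianRing (Localization.AtPrime 𝔮) :=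
    IsLocalization.isNoetherianRing 𝔮.primeCompl _ inferInstance
  have hregL : CAlg.IsGeometricallyRegular k (Localization.AtPrime 𝔮) :=
    H5.NG.isGeometricallyRegular_of_isLocalization k Λ 𝔮.primeCompl _ hreg
  have hfs := (H5.NG.isGeometricallyRegular_iff_isAdicFormallySmooth k
    (Localization.AtPrime 𝔮)).mp hregL
  -- the residue field is a field inside `L`, as `𝔪 = 0`
  have hfin : (maximalIdeal (Localization.AtPrime 𝔮)).spanFinrank = 0 := by
    have h1 := IsRegularLocalRing.spanFinrank_maximalIdeal (R := Localization.AtPrime 𝔮)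
    rw [hd] at h1
    exact_mod_cast h1
  have hbot : maximalIdeal (Localization.AtPrime 𝔮) = ⊥ := by
    have hfg : (maximalIdeal (Localization.AtPrime 𝔮)).FG := IsNoetherian.noetherian _
    exact (Submodule.spanFinrank_eq_zero_iff_eq_bot hfg).mp hfin
  have hinj : Function.Injective (IsLocalRing.residue (Localization.AtPrime 𝔮)) := by
    rw [injective_iff_map_eq_zero]
    intro x hx
    have : x ∈ maximalIdeal (Localization.AtPrime 𝔮) := (IsLocalRing.residue_eq_zero_iff x).mp hx
    rw [hbot] at this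
    exact this
  have hbij : Function.Bijective (IsScalarTower.toAlgHom k (Localization.AtPrime 𝔮)
      𝔮.ResidueField) := ⟨hinj, IsLocalRing.residue_surjective⟩
  let e : Localization.AtPrime 𝔮 ≃ₐ[k] 𝔮.ResidueField := AlgEquiv.ofBijective _ hbij
  letI algKL : Algebra 𝔮.ResidueField (Localization.AtPrime 𝔮) := e.symm.toAlgHom.toRingHom.toAlgebra
  haveI : IsScalarTower k 𝔮.ResidueField (Localization.AtPrime 𝔮) :=
    IsScalarTower.of_algebraMap_eq fun t => (e.symm.commutes t).symm
  exact Groth.Agent.H5.GR.isGeometricallyReduced_subfield (k := k)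
    (A := Localization.AtPrime 𝔮) (K := 𝔮.ResidueField) hfs

/-- the induction on the parameters, with the concrete quotients. -/
theorem resolvable_induction_quot {R A Λ : Type u} [CommRing R] [IsNoetherianRing R] [CommRing A]
    [Algebra R A] [Algebra.FinitePresentation R A] [CommRing Λ] [Algebra R Λ] (φ : A →ₐ[R] Λ)
    (𝔮 : Ideal Λ) [𝔮.IsPrime] (r : ℕ) (π : Fin (r + 1) → R)
    (h1 : ∀ i, algebraMap R Λ (π i) ∈ 𝔮)
    (h2 : ∀ i : Fin (r + 1), ∀ y : R,
      π i ^ 2 * y ∈ Ideal.span ((fun j => π j ^ 8) '' {j | j < i}) →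
        π i * y ∈ Ideal.span ((fun j => π j ^ 8) '' {j | j < i}))
    (h3 : ∀ i : Fin (r + 1), ∀ y : Λ,
      algebraMap R Λ (π i) ^ 2 * y ∈
          Ideal.span ((fun j => algebraMap R Λ (π j) ^ 8) '' {j | j < i}) →
        algebraMap R Λ (π i) * y ∈
          Ideal.span ((fun j => algebraMap R Λ (π j) ^ 8) '' {j | j < i}))
    (h4 : ∀ i, Smoothing.IsStrictlyStandard R A (algebraMap R A (π i)))
    (K : Ideal R) (hK : K = Ideal.span (Set.range fun i => π i ^ 8))
    (hres : Smoothing.Resolvable (R ⧸ K) (Groth.Agent.H5.Des.phiK K φ)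
      (𝔮.map (Ideal.Quotient.mk (K.map (algebraMap R Λ))))) :
    Smoothing.Resolvable R φ 𝔮 := by
  refine Groth.Agent.H5.Des.resolvable_induction φ 𝔮 r π h1 h2 h3 h4
    (R' := R ⧸ K) (A' := A ⧸ K.map (algebraMap R A)) (Λ' := Λ ⧸ K.map (algebraMap R Λ))
    Ideal.Quotient.mk_surjective Ideal.Quotient.mk_surjective Ideal.Quotient.mk_surjective
    ?_ ?_ ?_ (Groth.Agent.H5.Des.phiK K φ) (fun a => rfl) hres
  · rw [Ideal.Quotient.algebraMap_eq, Ideal.mk_ker, hK]
  · rw [Ideal.Quotient.algebraMap_eq, Ideal.mk_ker, Ideal.Quotient.algebraMap_eq, Ideal.mk_ker]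
  · rw [Ideal.Quotient.algebraMap_eq, Ideal.mk_ker, Ideal.Quotient.algebraMap_eq, Ideal.mk_ker]

end Groth.Agent.H5.Ins
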