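import Mathlib
import Groth.Prelude.Def_Smoothing
import Groth.Agent.Lib.Helper5.Ins.C
import Groth.Agent.Lib.Helper5.Ins.D
import Groth.Agent.Lib.Helper5.Ins.G6
import Groth.Agent.Lib.Helper5.Ins.H
import Groth.Agent.Lib.Helper5.Ins.K1
import Groth.Agent.Lib.Helper5.Ins.K2a

/-! The inseparable case of the local resolution over a field (Stacks 07F2-type statement). -/

set_option autoImplicit false
universe u

namespace Groth.Agent.H5.Ins

open Groth.Agent.H5.Sep Groth.Agent.H8.Par09 TensorProduct MvPolynomial IsLocalRing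

set_option maxHeartbeats 4000000 in
theorem main6824 {k A Λ : Type u} [Field k] (p : ℕ) [Fact p.Prime] [CharP k p] [CommRing A]
    [Algebra k A] [Algebra.FinitePresentation k A] [CommRing Λ] [Algebra k Λ]
    [IsNoetherianRing Λ] (hreg : CAlg.IsGeometricallyRegular k Λ) (φ : A →ₐ[k] Λ) (𝔮 : Ideal Λ)
    [𝔮.IsPrime] (hmin : 𝔮 ∈ (Smoothing.singRad k φ).minimalPrimes) :
    Smoothing.Resolvable k φ 𝔮 := by
  classical
  haveI : IsRegularRing Λ := Groth.Agent.H3.GRingFF.isRegularRing_of_isGeometricallyRegular k Λ hreg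
  haveI : IsNoetherianRing (Localization.AtPrime 𝔮) :=
    IsLocalization.isNoetherianRing 𝔮.primeCompl _ inferInstance
  have hregL : CAlg.IsGeometricallyRegular k (Localization.AtPrime 𝔮) :=
    H5.NG.isGeometricallyRegular_of_isLocalization k Λ 𝔮.primeCompl _ hreg
  have hfs := (H5.NG.isGeometricallyRegular_iff_isAdicFormallySmooth k
    (Localization.AtPrime 𝔮)).mp hregL
  obtain ⟨d, hd⟩ := Groth.Agent.H5.FSm.exists_nat_ringKrullDim (Localization.AtPrime 𝔮)
  rcases Nat.eq_zero_or_pos d with hd0 | hdpos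
  · subst hd0
    have hd' : ringKrullDim (Localization.AtPrime 𝔮) = 0 := by simpa using hd
    haveI := isGeometricallyReduced_residueField_of_dim_zero hreg 𝔮 hd'
    exact main6823 φ 𝔮 hmin
  obtain ⟨r, rfl⟩ : ∃ r, d = r + 1 := ⟨d - 1, by omega⟩
  -- the ideal `H Λ`
  have hmin' : 𝔮 ∈ ((Smoothing.singularIdeal k A).map φ).minimalPrimes := by
    rw [← Ideal.radical_minimalPrimes]; exact hmin
  obtain ⟨n, hn, hpow⟩ := exists_pow_map_le _ 𝔮 hmin'
  haveI : IsNoetherianRing A := Algebra.FiniteType.isNoetherianRing k A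
  obtain ⟨s, as, has⟩ := Submodule.fg_iff_exists_fin_generating_family.mp
    (IsNoetherian.noetherian (Smoothing.singularIdeal k A))
  have hasmem : ∀ j, as j ∈ Smoothing.singularIdeal k A := fun j => by
    rw [← has]; exact Submodule.subset_span ⟨j, rfl⟩
  have hsm : ∀ j, Algebra.Smooth k (Localization.Away (as j)) := fun j =>
    smooth_away_of_mem_singularIdeal _ (hasmem j)
  have hpow' : maximalIdeal (Localization.AtPrime 𝔮) ^ n ≤
      Ideal.span (Set.range fun j => algebraMap Λ (Localization.AtPrime 𝔮) (φ (as j))) := by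
    have h1 : ((Smoothing.singularIdeal k A).map φ).map (algebraMap Λ (Localization.AtPrime 𝔮)) =
        Ideal.span (Set.range fun j => algebraMap Λ (Localization.AtPrime 𝔮) (φ (as j))) := by
      have : Smoothing.singularIdeal k A = Ideal.span (Set.range as) := has.symm
      rw [this, Ideal.map_span, Ideal.map_span, ← Set.range_comp, ← Set.range_comp]
      rfl
    rw [← h1, ← Localization.AtPrime.map_eq_maximalIdeal, ← Ideal.map_pow]
    exact hpow
  -- the construction over `R₀ = k[x]`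
  have hsm' : ∀ j, Algebra.Smooth (MvPolynomial (Fin (r + 1)) k)
      (Localization.Away ((1 : MvPolynomial (Fin (r + 1)) k) ⊗ₜ[k] as j)) := fun j => by
    haveI := hsm j
    exact smooth_away_tmul (k := k) (R := MvPolynomial (Fin (r + 1)) k) (as j)
  obtain ⟨Cs₀, _, _, fpC, ι₀, ρ₀, c, hρι, hc, hstd, hsing⟩ :=
    exists_construction_aux' (R := MvPolynomial (Fin (r + 1)) k)
      (fun i : Fin (r + 1) => (X i : MvPolynomial (Fin (r + 1)) k) ⊗ₜ[k] (1 : A))
      (fun j : Fin s => (1 : MvPolynomial (Fin (r + 1)) k) ⊗ₜ[k] as j) n hsm'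
  haveI := fpC
  -- the numbers
  obtain ⟨E, hEdef⟩ : ∃ E : ℕ, E = c * 8 := ⟨_, rfl⟩
  have hE : 0 < E := by omega
  obtain ⟨N, hNdef⟩ : ∃ N : ℕ, N = (r + 1) * E + n := ⟨_, rfl⟩
  have hNpos : 0 < N := by omega
  have hNle : (r + 1) * E ≤ N := by omega
  haveI : IsLocalRing (Lb 𝔮 N) := isLocalRing_quot_pow N hNpos
  -- generators of `A`
  obtain ⟨sA, hsA⟩ := (Algebra.FiniteType.out : (⊤ : Subalgebra k A).FG)
  obtain ⟨σ, _, φP, π, D, locD, hπ𝔮, hπspan, hϖspan₀, hdimP, flatD, hmaxD, hED, hPD, algSD,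
    hcompat, hind⟩ := main_1613 𝔮 N hNpos p hfs hd (sA.image φ)
  haveI := locD
  haveI := flatD
  have hφD : ∀ a, rho k 𝔮 N (φ a) ∈ D := by
    intro a
    have ha : a ∈ Algebra.adjoin k (sA : Set A) := by rw [hsA]; trivial
    have h1 : (rho k 𝔮 N).comp φ a ∈ (Algebra.adjoin k (sA : Set A)).map ((rho k 𝔮 N).comp φ) :=
      ⟨a, ha, rfl⟩
    rw [AlgHom.map_adjoin] at h1
    refine Algebra.adjoin_le ?_ h1
    rintro _ ⟨x, hx, rfl⟩
    exact hED _ (Finset.mem_image_of_mem φ hx)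
  -- the parameters of `P`
  haveI : IsRegularLocalRing (Localization.AtPrime (𝔮.comap φP)) :=
    isRegularLocalRing_localization_mvPolynomial' k σ _
  obtain ⟨π', hπ'u, hπ'ann⟩ := exists_params_subset (𝔮.comap φP) hdimP E hE π hπspan (r + 1) le_rfl
  choose u hu hπ'eq using hπ'u
  have hπ'span : Ideal.span (Set.range fun i =>
      algebraMap _ (Localization.AtPrime (𝔮.comap φP)) (π' i)) =
      maximalIdeal (Localization.AtPrime (𝔮.comap φP)) := by
    rw [← hπspan]
    refine span_range_eq_of_unit_mul _ _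
      (fun i => algebraMap _ (Localization.AtPrime (𝔮.comap φP)) (u i)) (fun i => ?_) (fun i => ?_)
    · exact IsLocalization.map_units _ (⟨u i, hu i⟩ : (𝔮.comap φP).primeCompl)
    · rw [hπ'eq, map_mul]
  have hϖspan : Ideal.span (Set.range fun i =>
      algebraMap Λ (Localization.AtPrime 𝔮) (φP (π' i))) =
      maximalIdeal (Localization.AtPrime 𝔮) := by
    rw [← hϖspan₀]
    refine span_range_eq_of_unit_mul _ _
      (fun i => algebraMap Λ (Localization.AtPrime 𝔮) (φP (u i))) (fun i => ?_) (fun i => ?_)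
    · exact IsLocalization.map_units _ (⟨φP (u i), hu i⟩ : 𝔮.primeCompl)
    · rw [hπ'eq, map_mul, map_mul]
  have hϖ𝔪 : ∀ i, algebraMap Λ (Localization.AtPrime 𝔮) (φP (π' i)) ∈
      maximalIdeal (Localization.AtPrime 𝔮) := fun i => by
    rw [← hϖspan]; exact Ideal.subset_span ⟨i, rfl⟩
  -- the coefficients `μ'` in `D`
  have hμex : ∀ i, ∃ μ : Fin s → D, (⟨rho k 𝔮 N (φP (π' i)), hPD _⟩ : D) ^ n =
      ∑ j, μ j * ⟨rho k 𝔮 N (φ (as j)), hφD _⟩ := by
    intro i
    refine exists_coeff_of_faithfullyFlat D hmaxD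
      (fun j => (⟨rho k 𝔮 N (φ (as j)), hφD _⟩ : D)) _ ?_
    have h1 : algebraMap Λ (Localization.AtPrime 𝔮) (φP (π' i)) ^ n ∈
        Ideal.span (Set.range fun j => algebraMap Λ (Localization.AtPrime 𝔮) (φ (as j))) :=
      hpow' (Ideal.pow_mem_pow (hϖ𝔪 i) n)
    have h2 := Ideal.mem_map_of_mem (Ideal.Quotient.mk
      (maximalIdeal (Localization.AtPrime 𝔮) ^ N)) h1
    rw [Ideal.map_span, ← Set.range_comp] at h2
    exact h2
  choose μ hμ using hμex
  -- lifts to `L`
  have hm₀ex : ∀ ij : Fin (r + 1) × Fin s, ∃ m : Localization.AtPrime 𝔮,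
      Ideal.Quotient.mk (maximalIdeal (Localization.AtPrime 𝔮) ^ N) m = (μ ij.1 ij.2 : Lb 𝔮 N) :=
    fun ij => Ideal.Quotient.mk_surjective _
  choose m₀ hm₀ using hm₀ex
  have hm₀' : ∀ i, algebraMap Λ (Localization.AtPrime 𝔮) (φP (π' i)) ^ n -
      ∑ j, m₀ (i, j) * algebraMap Λ (Localization.AtPrime 𝔮) (φ (as j)) ∈
        maximalIdeal (Localization.AtPrime 𝔮) ^ ((r + 1) * E + n) := by
    intro i
    rw [← hNdef, ← Ideal.Quotient.eq_zero_iff_mem, map_sub, map_pow, map_sum, sub_eq_zero]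
    have h1 := congrArg D.val (hμ i)
    rw [map_pow, map_sum] at h1
    simp only [map_mul] at h1
    simp only [map_mul, hm₀]
    exact h1
  obtain ⟨δ, lam, hδ, hlam, hcong, hΛann⟩ := exists_lift_data 𝔮 hd (fun j => φ (as j)) n
    ((r + 1) * E) hn hpow' (fun i => φP (π' i)) hϖspan (fun i j => m₀ (i, j)) hm₀' E hE
  -- the algebra structures
  letI algRΛ : Algebra (MvPolynomial (Fin (r + 1)) (MvPolynomial σ k)) Λ :=
    (aevalTower φP δ : MvPolynomial (Fin (r + 1)) (MvPolynomial σ k) →ₐ[k] Λ).toRingHom.toAlgebra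
  have halg : ∀ f, algebraMap (MvPolynomial (Fin (r + 1)) (MvPolynomial σ k)) Λ f =
      aevalTower φP δ f := fun _ => rfl
  have halgC : ∀ f, algebraMap (MvPolynomial (Fin (r + 1)) (MvPolynomial σ k)) Λ (C f) = φP f :=
    fun f => by rw [halg, aevalTower_C]
  have halgX : ∀ i, algebraMap (MvPolynomial (Fin (r + 1)) (MvPolynomial σ k)) Λ (X i) = δ i :=
    fun i => by rw [halg, aevalTower_X]
  haveI twkRΛ : IsScalarTower k (MvPolynomial (Fin (r + 1)) (MvPolynomial σ k)) Λ :=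
    IsScalarTower.of_algebraMap_eq fun t => by
      rw [halg, AlgHom.commutes]
  letI algR₀R : Algebra (MvPolynomial (Fin (r + 1)) k)
      (MvPolynomial (Fin (r + 1)) (MvPolynomial σ k)) :=
    (aeval (fun i : Fin (r + 1) => (C (π' i) * X i :
      MvPolynomial (Fin (r + 1)) (MvPolynomial σ k))) :
      MvPolynomial (Fin (r + 1)) k →ₐ[k] _).toRingHom.toAlgebra
  have halg₀ : ∀ f, algebraMap (MvPolynomial (Fin (r + 1)) k)
      (MvPolynomial (Fin (r + 1)) (MvPolynomial σ k)) f =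
      aeval (fun i : Fin (r + 1) => (C (π' i) * X i :
        MvPolynomial (Fin (r + 1)) (MvPolynomial σ k))) f := fun _ => rfl
  have hR₀X : ∀ i, algebraMap (MvPolynomial (Fin (r + 1)) k)
      (MvPolynomial (Fin (r + 1)) (MvPolynomial σ k)) (X i) = C (π' i) * X i :=
    fun i => by rw [halg₀, aeval_X]
  haveI twkR₀R : IsScalarTower k (MvPolynomial (Fin (r + 1)) k)
      (MvPolynomial (Fin (r + 1)) (MvPolynomial σ k)) :=
    IsScalarTower.of_algebraMap_eq fun t => by
      rw [halg₀, AlgHom.commutes]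
  letI algR₀Λ : Algebra (MvPolynomial (Fin (r + 1)) k) Λ :=
    ((algebraMap (MvPolynomial (Fin (r + 1)) (MvPolynomial σ k)) Λ).comp
      (algebraMap (MvPolynomial (Fin (r + 1)) k) _)).toAlgebra
  haveI twR₀RΛ : IsScalarTower (MvPolynomial (Fin (r + 1)) k)
      (MvPolynomial (Fin (r + 1)) (MvPolynomial σ k)) Λ :=
    IsScalarTower.of_algebraMap_eq fun _ => rfl
  haveI twkR₀Λ : IsScalarTower k (MvPolynomial (Fin (r + 1)) k) Λ :=
    IsScalarTower.of_algebraMap_eq fun t => by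
      rw [IsScalarTower.algebraMap_apply (MvPolynomial (Fin (r + 1)) k)
        (MvPolynomial (Fin (r + 1)) (MvPolynomial σ k)) Λ,
        ← IsScalarTower.algebraMap_apply k (MvPolynomial (Fin (r + 1)) k),
        ← IsScalarTower.algebraMap_apply k (MvPolynomial (Fin (r + 1)) (MvPolynomial σ k)) Λ]
  have halgR₀X : ∀ i, algebraMap (MvPolynomial (Fin (r + 1)) k) Λ (X i) = δ i * φP (π' i) :=
    fun i => by
      rw [IsScalarTower.algebraMap_apply (MvPolynomial (Fin (r + 1)) k)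
        (MvPolynomial (Fin (r + 1)) (MvPolynomial σ k)) Λ, hR₀X, map_mul, halgC, halgX, mul_comm]
  -- the map `ψ : R₀ ⊗ A → Λ` and its extension to `B`
  obtain ⟨ψ, hψ1, hψ2⟩ : ∃ ψ : MvPolynomial (Fin (r + 1)) k ⊗[k] A →ₐ[MvPolynomial (Fin (r + 1)) k]
      Λ, (∀ x, ψ (x ⊗ₜ 1) = algebraMap _ Λ x) ∧ ∀ a, ψ (1 ⊗ₜ a) = φ a := by
    refine ⟨Algebra.TensorProduct.lift (Algebra.ofId _ Λ) φ (fun _ _ => Commute.all _ _),
      fun x => ?_, fun a => ?_⟩
    · rw [Algebra.TensorProduct.lift_tmul, map_one, mul_one]; rfl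
    · rw [Algebra.TensorProduct.lift_tmul, map_one, one_mul]
  obtain ⟨Ψ₀, hΨ₀A, hΨ₀z⟩ := exists_lift_BB' (R := MvPolynomial (Fin (r + 1)) k)
    (fun i : Fin (r + 1) => (X i : MvPolynomial (Fin (r + 1)) k) ⊗ₜ[k] (1 : A))
    (fun j : Fin s => (1 : MvPolynomial (Fin (r + 1)) k) ⊗ₜ[k] as j) n ψ
    (fun ij => lam ij.1 ij.2) (fun i => by
      simp only [hψ1, hψ2, halgR₀X]
      exact hlam i)
  obtain ⟨ψC, hψC⟩ : ∃ ψC : MvPolynomial (Fin (r + 1)) (MvPolynomial σ k) ⊗[MvPolynomial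
      (Fin (r + 1)) k] Cs₀ →ₐ[MvPolynomial (Fin (r + 1)) (MvPolynomial σ k)] Λ,
      ∀ x, ψC (1 ⊗ₜ x) = Ψ₀ (ρ₀ x) := by
    refine ⟨Algebra.TensorProduct.lift (Algebra.ofId _ Λ) (Ψ₀.comp ρ₀)
      (fun _ _ => Commute.all _ _), fun x => ?_⟩
    rw [Algebra.TensorProduct.lift_tmul, map_one, one_mul]
    rfl
  have hγΛ : ∀ i, algebraMap (MvPolynomial (Fin (r + 1)) (MvPolynomial σ k)) Λ
      ((C (π' i) * X i) ^ c) = (δ i * φP (π' i)) ^ c := fun i => by
    rw [map_pow, map_mul, halgC, halgX, mul_comm]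
  have hϖ𝔮 : ∀ i, φP (π' i) ∈ 𝔮 := by
    intro i
    rw [← IsLocalization.AtPrime.to_map_mem_maximal_iff (Localization.AtPrime 𝔮) 𝔮]
    exact hϖ𝔪 i
  -- resolve over `R`
  have hres : Smoothing.Resolvable (A := MvPolynomial (Fin (r + 1)) (MvPolynomial σ k) ⊗[MvPolynomial
      (Fin (r + 1)) k] Cs₀) (MvPolynomial (Fin (r + 1)) (MvPolynomial σ k)) ψC 𝔮 := by
    obtain ⟨K, hKdef⟩ : ∃ K : Ideal (MvPolynomial (Fin (r + 1)) (MvPolynomial σ k)),
        K = Ideal.span (Set.range fun i : Fin (r + 1) =>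
          ((C (π' i) * X i : MvPolynomial (Fin (r + 1)) (MvPolynomial σ k)) ^ c) ^ 8) := ⟨_, rfl⟩
    have hK' : K = Ideal.span (Set.range fun i : Fin (r + 1) =>
        (C (π' i) * X i : MvPolynomial (Fin (r + 1)) (MvPolynomial σ k)) ^ E) := by
      rw [hKdef, hEdef]
      congr 2
      funext i
      rw [pow_mul]
    refine resolvable_induction_quot (A := MvPolynomial (Fin (r + 1)) (MvPolynomial σ k) ⊗[MvPolynomial
      (Fin (r + 1)) k] Cs₀) ψC 𝔮 r
      (fun i => (C (π' i) * X i : MvPolynomial (Fin (r + 1)) (MvPolynomial σ k)) ^ c) ?_ ?_ ?_ ?_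
      K hKdef ?_
    · intro i
      rw [hγΛ]
      exact Ideal.pow_mem_of_mem _ (Ideal.mul_mem_left _ _ (hϖ𝔮 i)) _ hc
    · intro i y hy
      refine ann_cond_gamma π' c hc (fun i T hT x hx => ?_) i y hy
      rw [← hEdef] at hx ⊢
      exact hπ'ann i i.2 T hT x hx
    · intro i y hy
      simp only [hγΛ] at hy ⊢
      have hset : Ideal.span ((fun j => ((δ j * φP (π' j)) ^ c) ^ 8) '' {j : Fin (r + 1) | j < i}) =
          KK E (fun i => δ i * φP (π' i)) i := by
        unfold KK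
        congr 1
        ext y
        constructor
        · rintro ⟨j, hj, rfl⟩
          exact ⟨j, hj, by rw [hEdef, pow_mul]⟩
        · rintro ⟨j, hj, rfl⟩
          exact ⟨j, hj, by rw [hEdef, pow_mul]⟩
      rw [hset] at hy ⊢
      exact ann_cond_pow _ _ c hc (hΛann i) y hy
    · intro i
      have h1 := hstd i
      have e1 : ι₀ (algebraMap (MvPolynomial (Fin (r + 1)) k ⊗[k] A) _
          ((X i : MvPolynomial (Fin (r + 1)) k) ⊗ₜ[k] (1 : A))) =
          algebraMap (MvPolynomial (Fin (r + 1)) k) Cs₀ (X i) := by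
        have e : (X i : MvPolynomial (Fin (r + 1)) k) ⊗ₜ[k] (1 : A) =
            algebraMap (MvPolynomial (Fin (r + 1)) k) (MvPolynomial (Fin (r + 1)) k ⊗[k] A) (X i) := by
          rw [Algebra.TensorProduct.algebraMap_apply]; rfl
        rw [e, ← IsScalarTower.algebraMap_apply, AlgHom.commutes]
      rw [e1] at h1
      have h2 := isStrictlyStandard_algebraMap_baseChange
        (R := MvPolynomial (Fin (r + 1)) (MvPolynomial σ k)) (X i) c h1
      rw [hR₀X] at h2
      exact h2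
    · exact resolvable_RED 𝔮 φP (Nat.succ_pos r) π' δ hδ hπ'span hϖspan halgC halgX E N n hE hNle K
        hK' D hPD hcompat hind φ hφD as (fun ij => μ ij.1 ij.2) hμ m₀ hm₀
        (fun ij => lam ij.1 ij.2) (fun ij => hcong ij.1 ij.2) hR₀X ρ₀ Ψ₀
        (fun a => by rw [hΨ₀A, hψ2]) hΨ₀z ψC hψC
  -- the map `α : A → Cs` and the transfer to `k`
  obtain ⟨α, hα⟩ : ∃ α : A →+* MvPolynomial (Fin (r + 1)) (MvPolynomial σ k) ⊗[MvPolynomial
      (Fin (r + 1)) k] Cs₀, ∀ a, α a = (1 : MvPolynomial (Fin (r + 1)) (MvPolynomial σ k)) ⊗ₜ[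
        MvPolynomial (Fin (r + 1)) k] ι₀ (algebraMap (MvPolynomial (Fin (r + 1)) k ⊗[k] A) _
          ((1 : MvPolynomial (Fin (r + 1)) k) ⊗ₜ[k] a)) :=
    ⟨(Algebra.TensorProduct.includeRight : Cs₀ →ₐ[MvPolynomial (Fin (r + 1)) k]
        MvPolynomial (Fin (r + 1)) (MvPolynomial σ k) ⊗[MvPolynomial (Fin (r + 1)) k] Cs₀).toRingHom.comp
      (ι₀.toRingHom.comp ((algebraMap (MvPolynomial (Fin (r + 1)) k ⊗[k] A) _).comp
        (Algebra.TensorProduct.includeRight : A →ₐ[k] MvPolynomial (Fin (r + 1)) k ⊗[k] A).toRingHom)),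
      fun a => rfl⟩
  haveI : Algebra.FinitePresentation k (MvPolynomial (Fin (r + 1)) (MvPolynomial σ k)) :=
    Algebra.FinitePresentation.trans k (MvPolynomial σ k) _
  haveI : Algebra.FormallySmooth k (MvPolynomial (Fin (r + 1)) (MvPolynomial σ k)) :=
    Algebra.FormallySmooth.comp k (MvPolynomial σ k) _
  refine resolvable_transfer (R := MvPolynomial (Fin (r + 1)) (MvPolynomial σ k))
    (Cs := MvPolynomial (Fin (r + 1)) (MvPolynomial σ k) ⊗[MvPolynomial (Fin (r + 1)) k] Cs₀)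
    φ ψC α ?_ ?_ ?_ 𝔮 hres
  · intro t
    rw [hα]
    have e : (1 : MvPolynomial (Fin (r + 1)) k) ⊗ₜ[k] algebraMap k A t =
        algebraMap (MvPolynomial (Fin (r + 1)) k) (MvPolynomial (Fin (r + 1)) k ⊗[k] A)
          (algebraMap k (MvPolynomial (Fin (r + 1)) k) t) := by
      rw [Algebra.TensorProduct.algebraMap_apply, Algebra.algebraMap_self_apply,
        Algebra.algebraMap_eq_smul_one, Algebra.algebraMap_eq_smul_one (A := MvPolynomial (Fin (r + 1)) k),
        TensorProduct.tmul_smul, TensorProduct.smul_tmul']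
    rw [e, ← IsScalarTower.algebraMap_apply, AlgHom.commutes,
      Algebra.TensorProduct.algebraMap_apply, Algebra.algebraMap_self_apply,
      IsScalarTower.algebraMap_apply k (MvPolynomial (Fin (r + 1)) k)
        (MvPolynomial (Fin (r + 1)) (MvPolynomial σ k)),
      Algebra.algebraMap_eq_smul_one (A := Cs₀), TensorProduct.tmul_smul, TensorProduct.smul_tmul',
      ← Algebra.algebraMap_eq_smul_one]
  · intro a
    rw [hα, hψC, hρι, hΨ₀A, hψ2]
  · rw [Ideal.map_le_iff_le_comap, ← has]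
    show Ideal.span (Set.range as) ≤ _
    rw [Ideal.span_le]
    rintro _ ⟨j, rfl⟩
    rw [SetLike.mem_coe, Ideal.mem_comap, hα]
    exact mem_singularIdeal_baseChange _ (hsing j)

end Groth.Agent.H5.Ins
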